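import Cfsg.Agent.Lib.ReeF4Out.Rigid

/-!
The (B, N)-pair of 2F4(q): the rank one identity comes from the uniqueness of the Bruhat
decomposition in F4.
-/

set_option autoImplicit false
set_option linter.unusedSectionVars false
set_option maxRecDepth 4000

namespace CfsgLib.ReeF4Out

open Cfsg.Lie CfsgLib.Chev CfsgLib.ReeF4
open CfsgLib.ChevAut (Up Um)
open scoped Pointwise

variable {K : Type*} [Field K] [Fintype K] {m : ℕ} {σ : MulAut ↥(chevF4.group K)}

/-- the node exchanged with `i` -/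
def nodeRev : Fin chevF4.rank → Fin chevF4.rank := Fin.rev

theorem node_rev : ∀ i : Fin chevF4.rank, rho (chevF4.simple i.val) = chevF4.simple (nodeRev i).val ∧
    ∀ r : Fin 48, rho (sigs chevF4 tb [i] r) = sigs chevF4 tb [nodeRev i] (rho r) := by
  decide +kernel

theorem keep_terms : ∀ s : Bool, ∀ r : Fin 48, 24 ≤ (r : ℕ) → ∀ t : Fin 48,
    KeepRoot chevF4 tb (jl s) t → (r : ℕ) ≠ t →
    (r : ℕ) ≠ chevF4.neg t ∧ (t : ℕ) ≠ chevF4.neg r ∧
      ∀ c ∈ chevF4.commTerms r t, c.1 < 48 ∧ KeepRoot chevF4 tb (jl s) c.1 := by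
  unfold KeepRoot; decide +kernel

theorem jl_simple : ∀ s : Bool, ∀ i : Fin chevF4.rank,
    (KeepRoot chevF4 tb (jl s) (chevF4.simple i.val) ∧
      KeepRoot chevF4 tb (jl s) (sigs chevF4 tb (jl s) (chevF4.simple i.val))) ∨
    ((chevF4.simple i.val = (sR s).1 ∨ chevF4.simple i.val = (sR s).2) ∧
      (sigs chevF4 tb (jl s) (chevF4.simple i.val) = chevF4.neg (sR s).1 ∨
        sigs chevF4 tb (jl s) (chevF4.simple i.val) = chevF4.neg (sR s).2)) := by
  unfold KeepRoot; decide +kernel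

theorem jroot_facts : ∀ s : Bool, ∀ r : Fin 48, JRoot s r →
    JRoot s (chevF4.neg (sigs chevF4 tb (jl s) r)) ∧
    ((r : ℕ) = (sR s).1 ∨ (r : ℕ) = (sR s).2 ∨
      (s = true ∧ ((r : ℕ) = f4ab ∨ (r : ℕ) = f4aab))) := by
  unfold JRoot InvRoot; decide +kernel

theorem span_facts :
    CombRoot chevF4 tb f4a f4b f4ab ∧ CombRoot chevF4 tb f4a f4b f4aab := by
  have h1 : rv chevF4 tb f4ab = rv chevF4 tb f4a + rv chevF4 tb f4b := by decide +kernel
  have h2 : rv chevF4 tb f4aab = rv chevF4 tb f4a + rv chevF4 tb f4a + rv chevF4 tb f4b := by decide +kernel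
  exact ⟨⟨by decide, 1, 1, one_pos, one_pos, by simp [h1]⟩,
    ⟨by decide, 2, 1, two_pos, one_pos, by simp [h2, two_smul]⟩⟩

theorem sR_pos : ∀ s : Bool, 24 ≤ (sR s).1 ∧ 24 ≤ (sR s).2 ∧ JRoot s (sR s).1 ∧ JRoot s (sR s).2 := by
  unfold JRoot InvRoot; decide +kernel

/-- a word commuting with ρ keeps all roots of an orbit class on one side -/
theorem side_cases {L : List (Fin chevF4.rank)}
    (hL : ∀ r, r < 48 → rho (sigs chevF4 tb L r) = sigs chevF4 tb L (rho r)) (s : Bool) :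
    (∀ r, r < 48 → JRoot s r → 24 ≤ sigs chevF4 tb L r) ∨
    (∀ r, r < 48 → JRoot s r → sigs chevF4 tb L r < 24) := by
  obtain ⟨h1, h2, e1, -⟩ := sR_facts s
  obtain ⟨p1, p2, -, -⟩ := sR_pos s
  have hs : (24 ≤ sigs chevF4 tb L (sR s).2 ↔ 24 ≤ sigs chevF4 tb L (sR s).1) := by
    rw [← e1, ← hL _ h1]
    exact rho_pos (sigs_lt hc L (show (sR s).1 < chevF4.nroots from h1))
  obtain ⟨c1, c2⟩ := span_facts
  have ha : f4a < chevF4.nroots := by decide
  have hb : f4b < chevF4.nroots := by decide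
  rcases Nat.lt_or_ge (sigs chevF4 tb L (sR s).1) 24 with g | g
  · right
    intro r hr hJ
    have g' : sigs chevF4 tb L (sR s).2 < 24 := by omega
    rcases (jroot_facts s ⟨r, hr⟩ hJ).2 with e | e | ⟨rfl, e | e⟩
    · simp only at e; rw [e]; exact g
    · simp only at e; rw [e]; exact g'
    · simp only at e; rw [e]; exact ((closedPos_inv hc L).2 _ _ _ ha hb ⟨p1, g⟩ ⟨p2, g'⟩ c1).2
    · simp only at e; rw [e]; exact ((closedPos_inv hc L).2 _ _ _ ha hb ⟨p1, g⟩ ⟨p2, g'⟩ c2).2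
  · left
    intro r hr hJ
    rcases (jroot_facts s ⟨r, hr⟩ hJ).2 with e | e | ⟨rfl, e | e⟩
    · simp only at e; rw [e]; exact g
    · simp only at e; rw [e]; exact hs.2 g
    · simp only at e; rw [e]; exact ((closedPos_keep hc L).2 _ _ _ ha hb ⟨p1, g⟩ ⟨p2, hs.2 g⟩ c1).2
    · simp only at e; rw [e]; exact ((closedPos_keep hc L).2 _ _ _ ha hb ⟨p1, g⟩ ⟨p2, hs.2 g⟩ c2).2

/-- the positive roots made negative by a word -/
noncomputable def invSet (L : List (Fin chevF4.rank)) : Finset (Fin 48) :=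
  Finset.univ.filter fun r => 24 ≤ (r : ℕ) ∧ sigs chevF4 tb L r < 24

section
variable (hσ : IsSigma m σ)
include hσ

theorem keep_normal (s : Bool) {u g : GL chevF4.Idx K} (hu : u ∈ uGen chevF4 K PosR)
    (hg : g ∈ uGen chevF4 K (KeepRoot chevF4 tb (jl s))) :
    u * g * u⁻¹ ∈ uGen chevF4 K (KeepRoot chevF4 tb (jl s)) := by
  induction hu using Subgroup.closure_induction generalizing g with
  | mem x hx =>
    obtain ⟨r, a, hr, hp, rfl⟩ := hx
    suffices hle : uGen chevF4 K (KeepRoot chevF4 tb (jl s)) ≤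
        (uGen chevF4 K (KeepRoot chevF4 tb (jl s))).comap (MulAut.conj (elX chevF4 K r a)).toMonoidHom from
      hle hg
    refine uGen_le_iff.2 fun t ht hK b => ?_
    show X r a * X t b * (X r a)⁻¹ ∈ uGen chevF4 K (KeepRoot chevF4 tb (jl s))
    have hinv : (X r a)⁻¹ = X r a :=
      inv_eq_of_mul_eq_one_right (X_self hσ hr a)
    by_cases he : r = t
    · subst he
      rw [X_add hσ hr, hinv, X_add hσ hr, add_comm a b, add_assoc, add_self hσ, add_zero]
      exact elX_mem_uGen ht hK _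
    obtain ⟨n1, n2, hterms⟩ := keep_terms s ⟨r, hr⟩ hp ⟨t, ht⟩ hK he
    have h := elX_comm hc hcomm (F := K) hr ht (Ne.symm he) n2 a b
    rw [hinv, mul_assoc, show X t b * X r a = _ from h, ← mul_assoc, ← mul_assoc, X_self hσ hr, one_mul]
    refine mul_mem (elX_mem_uGen ht hK _) ?_
    rw [wordGL, ChevalleyDatum.commWord, List.map_map]
    refine Subgroup.list_prod_mem _ fun z hz => ?_
    obtain ⟨c, hc', rfl⟩ := List.mem_map.1 hz
    exact elX_mem_uGen (hterms c hc').1 (hterms c hc').2 _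
  | one => simpa using hg
  | mul x y _ _ hx hy =>
    rw [show x * y * g * (x * y)⁻¹ = x * (y * g * y⁻¹) * x⁻¹ by group]
    exact hx (hy hg)
  | inv x _ hx =>
    have hle : (uGen chevF4 K (KeepRoot chevF4 tb (jl s))).map (MulAut.conj x).toMonoidHom ≤
        uGen chevF4 K (KeepRoot chevF4 tb (jl s)) := by
      rintro _ ⟨z, hz, rfl⟩; exact hx hz
    obtain ⟨z, hz, e⟩ := (Subgroup.eq_of_le_of_card_ge hle
      (Subgroup.card_map_of_injective (MulAut.conj x).injective).ge).ge hg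
    rw [← e]
    simpa [mul_assoc] using hz

theorem simg_nProd (L : List (Fin chevF4.rank)) :
    nProd chevF4 K L ∈ chevF4.group K ∧
      simg σ (nProd chevF4 K L) = nProd chevF4 K (L.map nodeRev) := by
  induction L with
  | nil =>
    simp only [nProd_nil, List.map_nil]
    exact ⟨one_mem _, simg_one⟩
  | cons i L ih =>
    have hp := simple_lt hc (D := chevF4) i.2
    have hN : elN chevF4 K (chevF4.simple i.val) 1 ∈ chevF4.group K := elN_mem_group hc hp 1
    rw [nProd_cons, List.map_cons, nProd_cons]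
    refine ⟨mul_mem hN ih.1, ?_⟩
    rw [simg_mul hN ih.1, ih.2, simg_elN hσ hp, (node_rev i).1]
    simp [phi]

omit hσ in
theorem sigs_nodeRev (L : List (Fin chevF4.rank)) {r : ℕ} (hr : r < 48) :
    rho (sigs chevF4 tb L r) = sigs chevF4 tb (L.map nodeRev) (rho r) := by
  induction L with
  | nil => rfl
  | cons i L ih =>
    rw [List.map_cons, show i :: L = [i] ++ L from rfl,
      show nodeRev i :: L.map nodeRev = [nodeRev i] ++ L.map nodeRev from rfl, sigs_append, sigs_append, ← ih]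
    exact (node_rev i).2 ⟨_, sigs_lt hc L (show r < chevF4.nroots from hr)⟩

theorem nJ_sq_diag (s : Bool) : nJ K s * nJ K s ∈ chevF4.diagonalSubgroup K := by
  rw [nJ, ← nProd_append]
  refine nProd_mem_of_pos hc _ fun i => ?_
  have hlt := simple_lt hc (D := chevF4) i.2
  rw [sigs_append, ((jl_commute s) ⟨_, hlt⟩).2.1]
  exact half_le_simple hc i.2

theorem ng_sq (s : Bool) : ng hσ s * ng hσ s ∈ Hw K m := nJ_sq_diag hσ s

theorem Xs_conj_keep (s : Bool) {a g : GL chevF4.Idx K} (ha : a ∈ uGen chevF4 K PosR)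
    (hg : g ∈ uGen chevF4 K (KeepRoot chevF4 tb (jl s))) :
    nJ K s * a * (nJ K s)⁻¹ * g * (nJ K s * a * (nJ K s)⁻¹)⁻¹ ∈
      uGen chevF4 K (KeepRoot chevF4 tb (jl s)) := by
  have hk : ∀ r, r < chevF4.nroots → KeepRoot chevF4 tb (jl s) r →
      KeepRoot chevF4 tb (jl s) (sigs chevF4 tb (jl s) r) := fun r hr h =>
    ⟨h.2, by rw [((jl_commute s) ⟨r, hr⟩).2.1]; exact h.1⟩
  have hk' : ∀ r, r < chevF4.nroots → KeepRoot chevF4 tb (jl s) r →
      KeepRoot chevF4 tb (jl s) (sigs chevF4 tb (jl s).reverse r) := fun r hr h => by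
    rw [((jl_commute s) ⟨r, hr⟩).2.2]; exact hk r hr h
  rw [show ∀ n a g : GL chevF4.Idx K, n * a * n⁻¹ * g * (n * a * n⁻¹)⁻¹ =
    n * (a * (n⁻¹ * g * n) * a⁻¹) * n⁻¹ from fun n a g => by group]
  exact conj_nProd_uGen _ hk (keep_normal hσ s ha (conj_nProd_inv_uGen _ hk' hg))

/-- the rank one identity -/
theorem rank_one (s : Bool) {x : ↥(G1 K m)} (hx : x ∈ Xs σ m s) (hne : x ≠ 1) :
    ∃ b ∈ Bw K m, ∃ a ∈ Xs σ m s, ng hσ s * x * (ng hσ s)⁻¹ = b * ng hσ s * a := by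
  set y := ng hσ s * x * (ng hσ s)⁻¹ with hy
  have gy : (y : GL chevF4.Idx K) ∈ chevF4.group K := fixF_le_group (G1_le_fix hσ y.2)
  obtain ⟨L, u, h, v, hu, hh, hv, e⟩ := ChevField.exists_bruhat hc hcomm gy
  have gu : u ∈ chevF4.group K := uGen_le_group _ hu
  obtain ⟨gh, hh'⟩ := simg_diagonal hσ hh
  have gv : v ∈ chevF4.group K := uGen_le_group _ hv
  obtain ⟨gL, sL⟩ := simg_nProd hσ L
  have hfix := (mem_fixF.1 (G1_le_fix hσ y.2)).2
  rw [e, simg_mul (mul_mem (mul_mem gu gh) gL) gv, simg_mul (mul_mem gu gh) gL, simg_mul gu gh, sL] at hfix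
  have hu' : simg σ u ∈ uGen chevF4 K PosR := simg_mem_uGen hσ (fun r hr (h : 24 ≤ r) => (rho_pos hr).2 h) hu
  have hv' : simg σ v ∈ uInv chevF4 tb K (L.map nodeRev) := by
    refine simg_mem_uGen hσ (P := InvRoot chevF4 tb L) (fun r hr hI => ⟨(rho_pos hr).2 hI.1, ?_⟩) hv
    rw [← sigs_nodeRev L hr]
    have := rho_pos (sigs_lt hc L (show r < chevF4.nroots from hr))
    have := hI.2
    show _ < 24
    change _ < 24 at this
    omega
  obtain ⟨hsig, -, hveq, -⟩ := Chev.bruhat_unique hc (h := simg σ h) (k := h) (L := L.map nodeRev) (M := L)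
    hh' hh hu' hu hv' hv (by simpa [mul_assoc] using hfix)
  have hrho : ∀ r, r < 48 → rho (sigs chevF4 tb L r) = sigs chevF4 tb L (rho r) := fun r hr => by
    rw [sigs_nodeRev L hr, hsig _ (rho_lt hr)]
  have hvU : v ∈ uGen chevF4 K PosR := uInv_le_pos hc L hv
  have hkeep : ∀ r, r < 48 → KeepRoot chevF4 tb (jl s) r → 24 ≤ sigs chevF4 tb L r := by
    intro r hr hK
    by_contra hneg
    have hz := keep_normal hσ s (inv_mem hvU)
      (elX_mem_uGen (show r < chevF4.nroots from hr) hK (1 : K))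
    rw [inv_inv] at hz
    have hxU : (x : GL chevF4.Idx K) ∈ uGen chevF4 K PosR := Subgroup.mem_subgroupOf.1 (Xs_le_U hσ s hx)
    have h1 := Xs_conj_keep hσ s hxU hz
    rw [show nJ K s * (x : GL chevF4.Idx K) * (nJ K s)⁻¹ = (y : GL chevF4.Idx K) from rfl, e] at h1
    have h2 : nProd chevF4 K L * X r 1 * (nProd chevF4 K L)⁻¹ ∈ chevF4.borelSubgroup K := by
      have hb : u * h ∈ chevF4.borelSubgroup K := mul_mem (pos_le_borel hc hu) (diagonal_le_borel hc hh)
      have := mul_mem (mul_mem (inv_mem hb) (pos_le_borel hc (uGen_mono (fun _ _ h => h.1) h1))) hb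
      simpa [mul_assoc] using this
    rw [nProd_conj hσ L hr] at h2
    exact elX_not_mem_borel hc (sigs_lt hc L (show r < chevF4.nroots from hr)) (Nat.not_le.1 hneg) one_ne_zero h2
  have hJneg : ∀ r, r < 48 → JRoot s r → sigs chevF4 tb L r < 24 := by
    rcases side_cases hrho s with hpos | hneg
    · exfalso
      refine hne ((conj_eq_one_iff (a := ng hσ s)).1 (B_inf_V hσ ?_ (ng_conj_Xs hσ hx)))
      show (y : GL chevF4.Idx K) ∈ chevF4.borelSubgroup K
      rw [e]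
      refine mul_mem (mul_mem (mul_mem (pos_le_borel hc hu) (diagonal_le_borel hc hh))
        (diagonal_le_borel hc (nProd_mem_of_pos hc L fun i => ?_))) (pos_le_borel hc hvU)
      have hlt : chevF4.simple i.val < 48 := simple_lt hc i.2
      rcases jl_simple s i with ⟨hK, -⟩ | ⟨h', -⟩
      · exact hkeep _ hlt hK
      · obtain ⟨-, -, j1, j2⟩ := sR_pos s
        rcases h' with e | e <;> rw [e] <;>
          [exact hpos _ (sR_facts s).1 j1; exact hpos _ (sR_facts s).2.1 j2]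
    · exact hneg
  have hvV : v ∈ V σ (JRoot s) := by
    refine ⟨uGen_mono (fun r hr (hI : InvRoot chevF4 tb L r) => ⟨hI.1, Nat.lt_of_not_le fun hK => ?_⟩) hv,
      mem_fixF.2 ⟨gv, hveq⟩⟩
    exact absurd (hkeep r hr ⟨hI.1, hK⟩) (Nat.not_le.2 hI.2)
  let a : ↥(G1 K m) := ⟨v, (base_spec hσ s).1 hvV⟩
  refine ⟨y * a⁻¹ * (ng hσ s)⁻¹, ?_, a, hvV, by group⟩
  show (y : GL chevF4.Idx K) * v⁻¹ * (nJ K s)⁻¹ ∈ chevF4.borelSubgroup K
  have hd : nProd chevF4 K L * nJ K s ∈ chevF4.diagonalSubgroup K := by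
    rw [nJ, ← nProd_append]
    refine nProd_mem_of_pos hc _ fun i => ?_
    rw [sigs_append]
    rcases jl_simple s i with ⟨-, hK⟩ | ⟨-, hw⟩
    · exact hkeep _ (sigs_lt hc _ (simple_lt hc i.2)) hK
    · obtain ⟨-, -, j1, j2⟩ := sR_pos s
      have key : ∀ r, r < 48 → JRoot s r → 24 ≤ sigs chevF4 tb L (chevF4.neg r) := fun r hr hJ => by
        rw [sigs_neg hc L (show r < chevF4.nroots from hr),
          neg_eq hc (sigs_lt hc L (show r < chevF4.nroots from hr))]
        have := hJneg r hr hJ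
        show 24 ≤ 48 - _
        omega
      rcases hw with e | e <;> rw [e] <;>
        [exact key _ (sR_facts s).1 j1; exact key _ (sR_facts s).2.1 j2]
  rw [e, show ∀ u h n v j : GL chevF4.Idx K, u * h * n * v * v⁻¹ * j⁻¹ = u * h * (n * j) * (j * j)⁻¹ from
    fun u h n v j => by group]
  exact mul_mem (mul_mem (mul_mem (pos_le_borel hc hu) (diagonal_le_borel hc hh)) (diagonal_le_borel hc hd))
    (inv_mem (diagonal_le_borel hc (nJ_sq_diag hσ s)))

theorem Nw_inf_Bw {t : ↥(G1 K m)} (hb : t ∈ Bw K m) (hn : t ∈ Nw K m) : t ∈ Hw K m :=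
  borel_inf_monomial hc (Subgroup.mem_subgroupOf.1 hb) (Subgroup.mem_subgroupOf.1 hn)

theorem H_le_N : Hw K m ≤ Nw K m := fun _ h => diagonal_le_monomial hc (Subgroup.mem_subgroupOf.1 h)

theorem ng_mem_N (s : Bool) : ng hσ s ∈ Nw K m := nProd_mem_monomial hc _

theorem N_conj_H {n h : ↥(G1 K m)} (hn : n ∈ Nw K m) (hh : h ∈ Hw K m) : n * h * n⁻¹ ∈ Hw K m :=
  monomial_conj_diagonal hc (Subgroup.mem_subgroupOf.1 hn) (Subgroup.mem_subgroupOf.1 hh)

/-- every monomial element of 2F4 is a product of the two reflections and a diagonal element -/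
theorem N_gen {n : ↥(G1 K m)} (hn : n ∈ Nw K m) :
    n ∈ Subgroup.closure (Set.range (ng hσ)) ⊔ (Bw K m ⊓ Nw K m) := by
  suffices key : ∀ (c : ℕ) (n : ↥(G1 K m)) (d : GL chevF4.Idx K) (L : List (Fin chevF4.rank)),
      n ∈ Nw K m → d ∈ chevF4.diagonalSubgroup K → (n : GL chevF4.Idx K) = d * nProd chevF4 K L →
      (∀ r, r < 48 → rho (sigs chevF4 tb L r) = sigs chevF4 tb L (rho r)) → (invSet L).card = c →
      n ∈ Subgroup.closure (Set.range (ng hσ)) ⊔ (Bw K m ⊓ Nw K m) by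
    obtain ⟨d, L, hd, e, hrho, -⟩ := monomial_shape hσ hn
    exact key _ n d L hn hd e hrho rfl
  intro c
  induction c using Nat.strong_induction_on with
  | _ c ih =>
    intro n d L hn hd e hrho hcard
    by_cases hall : ∀ i : Fin chevF4.rank, 24 ≤ sigs chevF4 tb L (chevF4.simple i.val)
    · refine Subgroup.mem_sup_right ⟨diagonal_le_borel hc ?_, hn⟩
      rw [Subgroup.coe_subtype, e]
      exact mul_mem hd (nProd_mem_of_pos hc L hall)
    push Not at hall
    obtain ⟨i, hi⟩ := hall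
    obtain ⟨-, s, hs⟩ := w0_facts i
    obtain ⟨h1, h2, e1, e2⟩ := sR_facts s
    obtain ⟨-, -, j1, j2⟩ := sR_pos s
    have hs' : chevF4.simple i.val = (sR s).1 ∨ chevF4.simple i.val = (sR s).2 := by cases s <;> exact hs
    have hJneg : ∀ r, r < 48 → JRoot s r → sigs chevF4 tb L r < 24 := by
      rcases side_cases hrho s with hp | hq
      · rcases hs' with g | g <;> rw [g] at hi
        · exact absurd (hp _ h1 j1) (Nat.not_le.2 hi)
        · exact absurd (hp _ h2 j2) (Nat.not_le.2 hi)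
      · exact hq
    have hmem : n * ng hσ s ∈ Subgroup.closure (Set.range (ng hσ)) ⊔ (Bw K m ⊓ Nw K m) := by
      refine ih _ ?_ (n * ng hσ s) d (L ++ jl s) (mul_mem hn (ng_mem_N hσ s)) hd ?_ ?_ rfl
      · rw [← hcard]
        let f : Fin 48 ↪ Fin 48 := ⟨fun r => ⟨sigs chevF4 tb (jl s) r, sigs_lt hc _ r.2⟩, fun a b h => by
          have h' : sigs chevF4 tb (jl s) a = sigs chevF4 tb (jl s) b := congrArg Fin.val h
          exact Fin.ext (by rw [← ((jl_commute s) a).2.1, h', ((jl_commute s) b).2.1])⟩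
        rw [← Finset.card_map f]
        refine Finset.card_lt_card (Finset.ssubset_iff_of_subset ?_ |>.2
          ⟨⟨(sR s).1, h1⟩, ?_, ?_⟩)
        · intro x hx
          obtain ⟨r, hr, rfl⟩ := Finset.mem_map.1 hx
          simp only [invSet, Finset.mem_filter, Finset.mem_univ, true_and, sigs_append] at hr ⊢
          refine ⟨?_, hr.2⟩
          show 24 ≤ sigs chevF4 tb (jl s) r
          by_contra hlow
          obtain ⟨hJ', -⟩ := jroot_facts s r ⟨hr.1, Nat.not_le.1 hlow⟩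
          have hlt : sigs chevF4 tb (jl s) r < chevF4.nroots := sigs_lt hc _ r.2
          have := hJneg _ (neg_lt hc hlt) hJ'
          rw [sigs_neg hc L hlt, neg_eq hc (sigs_lt hc L hlt)] at this
          have := hr.2
          change 48 - _ < 24 at ‹48 - _ < 24›
          omega
        · simp only [invSet, Finset.mem_filter, Finset.mem_univ, true_and]
          exact ⟨(sR_pos s).1, hJneg _ h1 j1⟩
        · intro hx
          obtain ⟨r, hr, hrx⟩ := Finset.mem_map.1 hx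
          simp only [invSet, Finset.mem_filter, Finset.mem_univ, true_and] at hr
          have hx' : sigs chevF4 tb (jl s) r = (sR s).1 := congrArg Fin.val hrx
          have h24 : sigs chevF4 tb (jl s) (sR s).1 < 24 := j1.2
          rw [← hx', ((jl_commute s) r).2.1] at h24
          omega
      · show (n : GL chevF4.Idx K) * nJ K s = _
        rw [e, nJ, nProd_append, mul_assoc]
      · intro r hr
        rw [sigs_append, sigs_append, hrho _ (sigs_lt hc _ (show r < chevF4.nroots from hr)),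
          ((jl_commute s) ⟨r, hr⟩).1]
    have hng : ng hσ s ∈ Subgroup.closure (Set.range (ng hσ)) ⊔ (Bw K m ⊓ Nw K m) :=
      Subgroup.mem_sup_left (Subgroup.subset_closure ⟨s, rfl⟩)
    exact (Subgroup.mul_mem_cancel_right _ hng).1 hmem

theorem bn_axiom (s : Bool) {n b : ↥(G1 K m)} (hn : n ∈ Nw K m) (hb : b ∈ Bw K m) :
    (∃ x ∈ Bw K m, ∃ y ∈ Bw K m, ng hσ s * b * n = x * (ng hσ s * n) * y) ∨
      ∃ x ∈ Bw K m, ∃ y ∈ Bw K m, ng hσ s * b * n = x * n * y := by
  obtain ⟨u, hu, h, hh, rfl⟩ := B_split hσ hb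
  obtain ⟨a, ha, r, hr, hu', hrn⟩ := U_split hσ s (inv_mem hu)
  have hu2 : u = r⁻¹ * a⁻¹ := by rw [← inv_inv u, hu', mul_inv_rev]
  set w := ng hσ s
  have hsr : w * r * w⁻¹ ∈ Bw K m := by
    have h1 := (H_conj hσ (ng_sq hσ s) (w⁻¹ * r * w)).1.2 hrn
    rw [show w * w * (w⁻¹ * r * w) * (w * w)⁻¹ = w * r * w⁻¹ by group] at h1
    exact U_le_B hσ h1
  have hnh : n⁻¹ * h * n ∈ Bw K m := H_le_B hσ (by simpa using N_conj_H hσ (inv_mem hn) hh)
  obtain ⟨d, L, hd, e, hrho, hconj⟩ := monomial_shape hσ (inv_mem hn)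
  have hconjP : ∀ {P : ℕ → Prop}, (∀ r, r < 48 → P r → 24 ≤ sigs chevF4 tb L r) →
      ∀ {z : GL chevF4.Idx K}, z ∈ uGen chevF4 K P →
      ((n⁻¹ : ↥(G1 K m)) : GL chevF4.Idx K) * z * ((n⁻¹ : ↥(G1 K m)) : GL chevF4.Idx K)⁻¹ ∈
        chevF4.borelSubgroup K := by
    intro P hP z hz
    rw [e, show d * nProd chevF4 K L * z * (d * nProd chevF4 K L)⁻¹ =
      d * (nProd chevF4 K L * z * (nProd chevF4 K L)⁻¹) * d⁻¹ by group]
    exact pos_le_borel hc (diag_conj_mem hc _ hd (conj_nProd_uGen L (Q := PosR) hP hz))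
  by_cases ha1 : a = 1
  · left
    refine ⟨_, inv_mem hsr, _, hnh, ?_⟩
    rw [hu2, ha1]; group
  rcases side_cases hrho s with hpos | hneg
  · left
    refine ⟨_, inv_mem hsr, _, mul_mem (inv_mem (?_ : n⁻¹ * a * n ∈ Bw K m)) hnh, ?_⟩
    · have := hconjP hpos (Subgroup.mem_inf.1 (Subgroup.mem_subgroupOf.1 ha)).1
      refine Subgroup.mem_subgroupOf.2 ?_
      simpa using this
    · rw [hu2]; group
  · right
    obtain ⟨x, hx, a', ha', hrk⟩ := rank_one hσ s (inv_mem ha) (by simpa using ha1)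
    have hYn : n⁻¹ * (w * a' * w⁻¹) * n ∈ Bw K m := by
      have hz : nJ K s * (a' : GL chevF4.Idx K) * (nJ K s)⁻¹ ∈
          uGen chevF4 K (fun t => ∃ r, r < 48 ∧ JRoot s r ∧ t = chevF4.neg r) :=
        conj_nProd_uGen _ (fun r hr hJ => by
          have hlt := sigs_lt hc (jl s) (T := tb) hr
          exact ⟨_, neg_lt hc hlt, (jroot_facts s ⟨r, hr⟩ hJ).1, (neg_neg_root hc hlt).symm⟩)
          (Subgroup.mem_inf.1 (Subgroup.mem_subgroupOf.1 ha')).1
      have := hconjP (P := fun t => ∃ r, r < 48 ∧ JRoot s r ∧ t = chevF4.neg r) (fun t _ ⟨r, hr, hJ, et⟩ => by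
        rw [et, sigs_neg hc L (show r < chevF4.nroots from hr),
          neg_eq hc (sigs_lt hc L (show r < chevF4.nroots from hr))]
        have := hneg r hr hJ
        show 24 ≤ 48 - _
        omega) hz
      refine Subgroup.mem_subgroupOf.2 ?_
      simpa [w, ng] using this
    have hns : n⁻¹ * (w * w) * n ∈ Bw K m :=
      H_le_B hσ (by simpa using N_conj_H hσ (inv_mem hn) (ng_sq hσ s))
    refine ⟨_, mul_mem (inv_mem hsr) hx, _, mul_mem (mul_mem hYn hns) hnh, ?_⟩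
    rw [hu2]
    calc w * (r⁻¹ * a⁻¹ * h) * n = (w * r * w⁻¹)⁻¹ * (w * a⁻¹ * w⁻¹) * w * h * n := by group
      _ = (w * r * w⁻¹)⁻¹ * (x * w * a') * w * h * n := by rw [hrk]
      _ = _ := by group

theorem ng_pos : ng hσ true * pg hσ true (1 : K) * (ng hσ true)⁻¹ ∈ Uw K m := by
  obtain ⟨a1, a2⟩ := pR_facts true
  obtain ⟨-, -, -, -, -, -, h1, h2⟩ := node_sigs true
  show nJ K true * (pgv m true 1) * (nJ K true)⁻¹ ∈ Up chevF4 K
  rw [pgv, show ∀ a x y : GL chevF4.Idx K, a * (x * y) * a⁻¹ = a * x * a⁻¹ * (a * y * a⁻¹) from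
    fun a x y => by group, nProd_conj hσ _ a1, nProd_conj hσ _ a2]
  exact mul_mem (elX_mem_uGen (sigs_lt hc _ (show (pR true).1 < chevF4.nroots from a1))
    (P := fun r => chevF4.nroots / 2 ≤ r) h1 _) (elX_mem_uGen (sigs_lt hc _
    (show (pR true).2 < chevF4.nroots from a2)) (P := fun r => chevF4.nroots / 2 ≤ r) h2 _)

theorem ng_inj {s s' : Bool} (h : (ng hσ s)⁻¹ * ng hσ s' ∈ Bw K m) : s = s' := by
  by_contra hne
  suffices key : ¬ (ng hσ false)⁻¹ * ng hσ true ∈ Bw K m by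
    cases s <;> cases s'
    · exact hne rfl
    · exact key h
    · refine key ?_
      have := inv_mem h
      rwa [mul_inv_rev, inv_inv] at this
    · exact hne rfl
  intro hB
  have hd := Nw_inf_Bw hσ hB (mul_mem (inv_mem (ng_mem_N hσ false)) (ng_mem_N hσ true))
  set d := (ng hσ false)⁻¹ * ng hσ true with hdd
  have hx : d * pg hσ true (1 : K) * d⁻¹ ∈ (uGen chevF4 K (JRoot false)).subgroupOf (G1 K m) :=
    diag_conj_mem hc _ (Subgroup.mem_subgroupOf.1 hd) (Subgroup.mem_inf.1 (pgv_pos_mem hσ 1)).1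
  have hV : ng hσ false * (d * pg hσ true 1 * d⁻¹) * (ng hσ false)⁻¹ ∈ Vw K m :=
    conj_nProd_uGen _ (fun _ _ h => h.2) (Subgroup.mem_subgroupOf.1 hx)
  have hU := ng_pos hσ
  rw [show ng hσ false * (d * pg hσ true 1 * d⁻¹) * (ng hσ false)⁻¹ =
    ng hσ true * pg hσ true 1 * (ng hσ true)⁻¹ by rw [hdd]; group] at hV
  exact pg_ne_one hσ (conj_eq_one_iff.1 (U_inf_V hσ hU hV))

theorem exists_hasBN : ∃ P : Cfsg.BNPair ↥(G1 K m), HasBN hσ P := by
  refine ⟨{
    B := Bw K m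
    N := Nw K m
    S := Set.range (ng hσ)
    sup_eq_top := ?_
    conj_mem := ?_
    subset := ?_
    sq_mem := ?_
    inj := ?_
    closure_sup := ?_
    mul_mem_union := ?_
    conj_ne := ?_ }, ⟨rfl, rfl, rfl⟩⟩
  · rw [eq_top_iff]
    intro x _
    have hle : G1 K m ≤ (Bw K m ⊔ Nw K m).map (G1 K m).subtype := by
      refine gens_le hσ (fun b t => ?_) (fun b y v => ?_)
      · cases b
        · exact ⟨_, ng_conj_pg hσ true t ▸ mul_mem (mul_mem (Subgroup.mem_sup_right (ng_mem_N hσ false))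
            (Subgroup.mem_sup_left (U_le_B hσ (pg_mem_U hσ t))))
            (inv_mem (Subgroup.mem_sup_right (ng_mem_N hσ false))), rfl⟩
        · exact ⟨_, Subgroup.mem_sup_left (U_le_B hσ (pg_mem_U hσ t)), rfl⟩
      · cases b
        · exact ⟨_, ng_conj_qg hσ true y v ▸ mul_mem (mul_mem (Subgroup.mem_sup_right (ng_mem_N hσ true))
            (Subgroup.mem_sup_left (U_le_B hσ (qg_mem_U hσ y v))))
            (inv_mem (Subgroup.mem_sup_right (ng_mem_N hσ true))), rfl⟩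
        · exact ⟨_, Subgroup.mem_sup_left (U_le_B hσ (qg_mem_U hσ y v)), rfl⟩
    obtain ⟨z, hz, e⟩ := hle x.2
    rwa [← show z = x from Subtype.ext e]
  · rintro n hn t ⟨htB, htN⟩
    exact H_le_B hσ (N_conj_H hσ hn (Nw_inf_Bw hσ htB htN))
  · rintro _ ⟨s, rfl⟩
    exact ng_mem_N hσ s
  · rintro _ ⟨s, rfl⟩
    exact H_le_B hσ (ng_sq hσ s)
  · rintro _ ⟨s, rfl⟩ _ ⟨s', rfl⟩ h
    rw [ng_inj hσ h]
  · refine le_antisymm (sup_le ((Subgroup.closure_le _).2 ?_) inf_le_right) fun n hn => N_gen hσ hn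
    rintro _ ⟨s, rfl⟩
    exact ng_mem_N hσ s
  · rintro _ ⟨s, rfl⟩ n hn b hb
    rcases bn_axiom hσ s hn hb with ⟨x, hx, y, hy, e⟩ | ⟨x, hx, y, hy, e⟩
    · exact Or.inl (DoubleCoset.mem_doubleCoset.2 ⟨x, hx, y, hy, e⟩)
    · exact Or.inr (DoubleCoset.mem_doubleCoset.2 ⟨x, hx, y, hy, e⟩)
  · rintro _ ⟨s, rfl⟩ hEq
    obtain ⟨x, hx, hne⟩ := Xs_witness hσ s
    have h1 : ng hσ s * x * ng hσ s ∈ (Bw K m : Set ↥(G1 K m)) :=
      hEq ▸ ⟨x, U_le_B hσ (Xs_le_U hσ s hx), rfl⟩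
    have h2 : ng hσ s * x * (ng hσ s)⁻¹ ∈ Bw K m := by
      rw [show ng hσ s * x * (ng hσ s)⁻¹ = ng hσ s * x * ng hσ s * (ng hσ s * ng hσ s)⁻¹ by group]
      exact mul_mem h1 (inv_mem (H_le_B hσ (ng_sq hσ s)))
    exact hne (conj_eq_one_iff.1 (B_inf_V hσ h2 (ng_conj_Xs hσ hx)))

end

end CfsgLib.ReeF4Out
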