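import Cfsg.Agent.Lib.ReeF4Out.Basic

/-!
2F4(q): the action of the torus on the root groups of the two orbits of nodes.
-/

set_option autoImplicit false
set_option linter.unusedSectionVars false
set_option maxRecDepth 4000

namespace CfsgLib.ReeF4Out

open Cfsg.Lie CfsgLib.Chev CfsgLib.ReeF4

variable {K : Type*} [Field K] [Fintype K] {m : ℕ} {σ : MulAut ↥(chevF4.group K)}

/-- exponents of the first torus map on a root -/
def e1 (r : ℕ) : ℤ × ℤ := (chevF4.cartan 0 r, chevF4.cartan 3 r)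

/-- exponents of the second torus map on a root -/
noncomputable def e2 (r : ℕ) : ℤ × ℤ := e1 (sigs chevF4 tb (jl true) r)

theorem e1_vals : ∀ b : Bool,
    (e1 (pR b).1 = cond b (2, 0) (-2, 0) ∧ e1 (pR b).2 = cond b (0, 2) (0, -2)) ∧
    (e1 (qR b).1 = cond b (-1, 0) (1, 0) ∧ e1 (qR b).2.1 = cond b (0, -1) (0, 1) ∧
      e1 (qR b).2.2.1 = cond b (-1, -1) (1, 1) ∧ e1 (qR b).2.2.2 = cond b (-2, -1) (2, 1)) := by
  decide +kernel

theorem e2_vals : ∀ b : Bool,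
    (e2 (pR b).1 = cond b (0, -1) (0, 1) ∧ e2 (pR b).2 = cond b (-2, 0) (2, 0)) ∧
    (e2 (qR b).1 = cond b (1, 0) (-1, 0) ∧ e2 (qR b).2.1 = cond b (0, 1) (0, -1) ∧
      e2 (qR b).2.2.1 = cond b (1, 1) (-1, -1) ∧ e2 (qR b).2.2.2 = cond b (2, 1) (-2, -1)) := by
  decide +kernel

theorem simple_p : chevF4.simple 0 = f4p1 ∧ chevF4.simple 3 = f4p4 := by decide +kernel

/-- evaluation of a pair of exponents -/
def ev (m : ℕ) (t : Kˣ) (e : ℤ × ℤ) : Kˣ := (t ^ 2 ^ m) ^ e.1 * t ^ e.2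

section
variable (hσ : IsSigma m σ)
include hσ

theorem NP_sq (t : K) : NP hσ t * NP hσ t = 1 := by
  have e : NP hσ t * NP hσ t = pg hσ true t * pg hσ false t⁻¹ * (pg hσ true t * pg hσ true t) *
      pg hσ false t⁻¹ * pg hσ true t := by rw [NP]; group
  rw [e, pg_self hσ, mul_one, mul_assoc (pg hσ true t), pg_self hσ, mul_one, pg_self hσ]

theorem NP_inv (t : K) : (NP hσ t)⁻¹ = NP hσ t := inv_eq_of_mul_eq_one_right (NP_sq hσ t)

theorem elN_comm (a b : K) : Commute (elN chevF4 K f4p4 b) (elN chevF4 K f4p1 a) := by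
  simp only [elN, show chevF4.neg f4p1 = f4m1 by decide +kernel,
    show chevF4.neg f4p4 = f4m4 by decide +kernel]
  have c := fun (r : ℕ) (h : (r, f4p1) ∈ commPairs) (t : K) => fun u => X_comm' (K := K) h t u
  have h1 : ∀ t, Commute (X f4p4 t) (elN chevF4 K f4p1 a) := fun t => by
    unfold elN
    rw [show chevF4.neg f4p1 = f4m1 by decide +kernel]
    exact ((X_comm' (by decide) _ _).mul_right (X_comm' (by decide) _ _)).mul_right (X_comm' (by decide) _ _)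
  have h2 : ∀ t, Commute (X f4m4 t) (elN chevF4 K f4p1 a) := fun t => by
    unfold elN
    rw [show chevF4.neg f4p1 = f4m1 by decide +kernel]
    exact ((X_comm' (by decide) _ _).mul_right (X_comm' (by decide) _ _)).mul_right (X_comm' (by decide) _ _)
  have := ((h1 b).mul_left (h2 (-b⁻¹))).mul_left (h1 b)
  simpa only [elN, show chevF4.neg f4p1 = f4m1 by decide +kernel] using this

/-- the first torus map -/
noncomputable def hA (t : Kˣ) : ↥(G1 K m) := NP hσ (t : K) * NP hσ 1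

/-- the second torus map -/
noncomputable def hB (t : Kˣ) : ↥(G1 K m) := ng hσ true * hA hσ t * (ng hσ true)⁻¹

/-- the torus map centralising the pair -/
noncomputable def hC (u : Kˣ) : ↥(G1 K m) := hA hσ (u ^ 2 ^ m) * hB hσ u

theorem coe_hA (t : Kˣ) : (hA hσ t : GL chevF4.Idx K) =
    torus chevF4 tb K (corChar chevF4 tb f4p1 (t ^ 2 ^ m) * corChar chevF4 tb f4p4 t) := by
  have h1 : f4p1 < chevF4.nroots := by decide
  have h4 : f4p4 < chevF4.nroots := by decide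
  have e : ∀ r, r < chevF4.nroots → (elN chevF4 K r 1)⁻¹ = elN chevF4 K r 1 := fun r hr => by
    rw [elN_inv hc hr, neg_self hσ]
  have hd1 := elN_mul_inv hc h1 (t ^ 2 ^ m) 1
  have hd4 := elN_mul_inv hc h4 t 1
  rw [div_one, Units.val_one, e _ h1, Units.val_pow_eq_pow_val] at hd1
  rw [div_one, Units.val_one, e _ h4] at hd4
  rw [hA, Subgroup.coe_mul, coe_NP, coe_NP, one_pow, map_mul, ← hd1, ← hd4]
  simp only [mul_assoc]
  congr 1
  rw [← mul_assoc, (elN_comm hσ 1 (t : K)).eq, mul_assoc]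

theorem hA_X (t : Kˣ) {r : ℕ} (hr : r < 48) (x : K) :
    (hA hσ t : GL chevF4.Idx K) * X r x * (hA hσ t : GL chevF4.Idx K)⁻¹ =
      X r ((ev m t (e1 r) : K) * x) := by
  have hr' : r < chevF4.nroots := hr
  rw [coe_hA, torus_conj_elX hc _ hr', chi_mul, ← simple_p.1, ← simple_p.2,
    chi_corChar_simple hc (⟨0, by decide⟩ : Fin chevF4.rank) hr',
    chi_corChar_simple hc (⟨3, by decide⟩ : Fin chevF4.rank) hr']
  rfl

theorem hB_X (t : Kˣ) {r : ℕ} (hr : r < 48) (x : K) :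
    (hB hσ t : GL chevF4.Idx K) * X r x * (hB hσ t : GL chevF4.Idx K)⁻¹ =
      X r ((ev m t (e2 r) : K) * x) := by
  have hw : sigs chevF4 tb (jl true) r < 48 := sigs_lt hc _ (show r < chevF4.nroots from hr)
  have e : ∀ y : K, nJ K true * X (sigs chevF4 tb (jl true) r) y * (nJ K true)⁻¹ = X r y := fun y => by
    rw [nProd_conj hσ _ hw, ((jl_commute true) ⟨r, hr⟩).2.1]
  rw [hB, Subgroup.coe_mul, Subgroup.coe_mul, Subgroup.coe_inv, ← e x, ← e ((ev m t (e2 r) : K) * x),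
    show e2 r = e1 (sigs chevF4 tb (jl true) r) from rfl, ← hA_X hσ t hw]
  show nJ K true * _ * (nJ K true)⁻¹ * _ * (nJ K true * _ * (nJ K true)⁻¹)⁻¹ = _
  group

theorem ev_eq (t : Kˣ) (i j : ℤ) : (ev m t (i, j) : K) = ((t : K) ^ 2 ^ m) ^ i * (t : K) ^ j := by
  simp [ev]

theorem conj_qg {h : ↥(G1 K m)} {f : ℕ → K}
    (hf : ∀ r, r < 48 → ∀ x, (h : GL chevF4.Idx K) * X r x * (h : GL chevF4.Idx K)⁻¹ = X r (f r * x))
    (b : Bool) {l : K} (h1 : f (qR b).1 = l ^ 2 ^ m) (h2 : f (qR b).2.1 = l)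
    (h3 : f (qR b).2.2.1 = l ^ (2 ^ m + 1)) (h4 : f (qR b).2.2.2 = l ^ (2 * 2 ^ m + 1)) (x u : K) :
    h * qg hσ b x u * h⁻¹ = qg hσ b (l * x) (l ^ (2 ^ m + 1) * u) := Subtype.ext (by
  obtain ⟨a1, a2, a3, a4⟩ := qR_facts b
  rw [Subgroup.coe_mul, Subgroup.coe_mul, Subgroup.coe_inv, coe_qg, coe_qg]
  rw [show ∀ n A B C E : GL chevF4.Idx K, n * (A * B * C * E) * n⁻¹ =
      n * A * n⁻¹ * (n * B * n⁻¹) * (n * C * n⁻¹) * (n * E * n⁻¹) from fun n A B C E => by group,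
    hf _ a2, hf _ a1, hf _ a3, hf _ a4, h1, h2, h3, h4, mul_pow, mul_add, mul_pow, mul_pow]
  have : (l ^ (2 ^ m + 1)) ^ (2 * 2 ^ m) = l ^ (2 * 2 ^ m + 1) := by
    rw [pow_succ, mul_pow, pow_tt hσ, pow_succ, mul_comm]
  rw [this])

theorem conj_pg {h : ↥(G1 K m)} {f : ℕ → K}
    (hf : ∀ r, r < 48 → ∀ x, (h : GL chevF4.Idx K) * X r x * (h : GL chevF4.Idx K)⁻¹ = X r (f r * x))
    (b : Bool) {l : K} (h1 : f (pR b).1 = l ^ 2 ^ m) (h2 : f (pR b).2 = l) (t : K) :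
    h * pg hσ b t * h⁻¹ = pg hσ b (l * t) := Subtype.ext (by
  obtain ⟨a1, a2⟩ := pR_facts b
  rw [Subgroup.coe_mul, Subgroup.coe_mul, Subgroup.coe_inv, coe_pg, coe_pg,
    show ∀ n A B : GL chevF4.Idx K, n * (A * B) * n⁻¹ = n * A * n⁻¹ * (n * B * n⁻¹) from
      fun n A B => by group, hf _ a1, hf _ a2, h1, h2, mul_pow])

theorem hA_pg (t : Kˣ) (b : Bool) (x : K) :
    hA hσ t * pg hσ b x * (hA hσ t)⁻¹ = pg hσ b ((t : K) ^ (cond b (2 : ℤ) (-2)) * x) := by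
  obtain ⟨⟨h1, h2⟩, -⟩ := e1_vals b
  refine conj_pg hσ (f := fun r => (ev m t (e1 r) : K)) (fun r hr x => hA_X hσ t hr x) b ?_ ?_ x
  all_goals cases b <;> simp only [cond_true, cond_false] at * <;>
    simp [h1, h2, ev_eq hσ, zpow_ofNat, ← pow_mul, mul_comm]

theorem hA_qg (t : Kˣ) (b : Bool) (x u : K) : hA hσ t * qg hσ b x u * (hA hσ t)⁻¹ =
    qg hσ b (cond b ((t : K)⁻¹) (t : K) * x) (cond b ((t : K)⁻¹) (t : K) ^ (2 ^ m + 1) * u) := by
  obtain ⟨-, h1, h2, h3, h4⟩ := e1_vals b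
  refine conj_qg hσ (f := fun r => (ev m t (e1 r) : K)) (fun r hr x => hA_X hσ t hr x) b ?_ ?_ ?_ ?_ x u
  all_goals cases b <;> simp only [cond_true, cond_false] at * <;>
    simp [h1, h2, h3, h4, ev_eq hσ, zpow_ofNat, pow_succ, two_mul, pow_add, inv_pow, mul_inv]

theorem theta_two (t : K) : ((t ^ 2 ^ m) ^ 2) ^ 2 ^ m = t := by
  rw [← pow_mul, ← pow_mul, show 2 ^ m * (2 * 2 ^ m) = 2 * 2 ^ m * 2 ^ m by ring, pow_cycle hσ]

theorem hB_pg (t : Kˣ) (b : Bool) (x : K) : hB hσ t * pg hσ b x * (hB hσ t)⁻¹ =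
    pg hσ b (((t : K) ^ 2 ^ m) ^ (cond b (-2 : ℤ) 2) * x) := by
  obtain ⟨⟨h1, h2⟩, -⟩ := e2_vals b
  refine conj_pg hσ (f := fun r => (ev m t (e2 r) : K)) (fun r hr x => hB_X hσ t hr x) b ?_ ?_ x
  all_goals cases b <;> simp only [cond_true, cond_false] at * <;>
    simp [h1, h2, ev_eq hσ, zpow_ofNat, theta_two hσ, inv_pow]

theorem hB_qg (t : Kˣ) (b : Bool) (x u : K) : hB hσ t * qg hσ b x u * (hB hσ t)⁻¹ =
    qg hσ b (cond b (t : K) ((t : K)⁻¹) * x) (cond b (t : K) ((t : K)⁻¹) ^ (2 ^ m + 1) * u) := by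
  obtain ⟨-, h1, h2, h3, h4⟩ := e2_vals b
  refine conj_qg hσ (f := fun r => (ev m t (e2 r) : K)) (fun r hr x => hB_X hσ t hr x) b ?_ ?_ ?_ ?_ x u
  all_goals cases b <;> simp only [cond_true, cond_false] at * <;>
    simp [h1, h2, h3, h4, ev_eq hσ, zpow_ofNat, pow_succ, two_mul, pow_add, inv_pow, mul_inv]

theorem hC_pg (u : Kˣ) (b : Bool) (x : K) : hC hσ u * pg hσ b x * (hC hσ u)⁻¹ = pg hσ b x := by
  rw [hC, show ∀ a c d : ↥(G1 K m), a * c * d * (a * c)⁻¹ = a * (c * d * c⁻¹) * a⁻¹ from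
    fun a c d => by group, hB_pg, hA_pg, ← mul_assoc]
  congr 1
  have h0 : ((u : K) ^ 2 ^ m) ≠ 0 := pow_ne_zero _ u.ne_zero
  cases b <;> simp [zpow_ofNat, h0]

theorem hC_qg (u : Kˣ) (x : K) (v : K) :
    hC hσ u * qg hσ true x v * (hC hσ u)⁻¹ =
      qg hσ true ((u : K) / (u : K) ^ 2 ^ m * x) (((u : K) / (u : K) ^ 2 ^ m) ^ (2 ^ m + 1) * v) := by
  rw [hC, show ∀ a c d : ↥(G1 K m), a * c * d * (a * c)⁻¹ = a * (c * d * c⁻¹) * a⁻¹ from
    fun a c d => by group, hB_qg, hA_qg]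
  simp only [cond_true, Units.val_pow_eq_pow_val, div_eq_inv_mul, mul_pow, mul_assoc]

theorem theta_fix {u : K} (h : u ^ 2 ^ m = u) : u = 0 ∨ u = 1 := by
  have h2 : u ^ (2 * 2 ^ m * 2 ^ m) = u := pow_cycle hσ u
  rw [mul_assoc, mul_comm 2, pow_mul, pow_mul, h, h] at h2
  rcases mul_eq_zero.1 (show u * (u - 1) = 0 by linear_combination h2) with e | e
  · exact Or.inl e
  · exact Or.inr (sub_eq_zero.1 e)

theorem norm_one {u : K} (h : u ^ (2 ^ m + 1) = 1) : u = 1 := by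
  have h0 : u ≠ 0 := fun e => by simp [e] at h
  have h1 : u ^ 2 ^ m = u⁻¹ := by rw [pow_succ] at h; exact eq_inv_of_mul_eq_one_left h
  have h2 := pow_cycle hσ u
  rw [mul_assoc, mul_comm 2, pow_mul, pow_mul, h1, inv_pow, h1, inv_inv] at h2
  exact mul_left_cancel₀ h0 (by linear_combination h2)

theorem norm_surj (v : Kˣ) : ∃ u : Kˣ, u ^ (2 ^ m + 1) = v := by
  classical
  refine (Finite.injective_iff_surjective (f := powMonoidHom (α := Kˣ) (2 ^ m + 1))).1 ?_ v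
  refine (injective_iff_map_eq_one _).2 fun u h => Units.ext (norm_one hσ ?_)
  exact congrArg Units.val h

theorem quot_surj (v : Kˣ) : ∃ u : Kˣ, (u : K) / (u : K) ^ 2 ^ m = v := by
  classical
  let f : Kˣ →* Kˣ := (MonoidHom.id Kˣ) / powMonoidHom (2 ^ m)
  obtain ⟨u, hu⟩ := (Finite.injective_iff_surjective (f := f)).1 ((injective_iff_map_eq_one f).2 fun u h => by
    have h' : (u : K) ^ 2 ^ m = u := by
      have := congrArg Units.val (div_eq_one.1 (show u / u ^ 2 ^ m = 1 from h))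
      simpa using this.symm
    exact Units.ext ((theta_fix hσ h').resolve_left u.ne_zero)) v
  refine ⟨u, ?_⟩
  rw [← hu]
  simp [f, div_eq_mul_inv]

theorem sq_surj (v : Kˣ) : ∃ u : Kˣ, (u : K) ^ 2 = v := by
  classical
  obtain ⟨r, hr⟩ := (Finite.injective_iff_surjective (f := fun x : K => x ^ 2)).1 (fun a b (h : a ^ 2 = b ^ 2) => by
    have : (a - b) ^ 2 = 0 := by linear_combination h + (b ^ 2 - a * b) * hσ.char2
    exact sub_eq_zero.1 ((pow_eq_zero_iff two_ne_zero).1 this)) (v : K)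
  have hr' : r ^ 2 = (v : K) := hr
  exact ⟨Units.mk0 r (fun e => v.ne_zero (by rw [← hr', e]; ring)), hr'⟩

theorem exists_not_prime (hm : 1 ≤ m) : ∃ x : K, x ^ 2 ^ m ≠ x := by
  classical
  by_contra h
  push Not at h
  have hle : (Finset.univ : Finset K) ⊆ {0, 1} := fun x _ => by
    rcases theta_fix hσ (h x) with e | e <;> simp [e]
  have := (Finset.card_le_card hle).trans Finset.card_le_two
  rw [Finset.card_univ, hσ.card] at this
  have : 2 ^ 3 ≤ 2 ^ (2 * m + 1) := Nat.pow_le_pow_right two_pos (by omega)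
  omega

theorem NP_conj (t : Kˣ) (x : K) :
    NP hσ (t : K) * pg hσ true x * (NP hσ (t : K))⁻¹ = pg hσ false (x / (t : K) ^ 2) := by
  refine Subtype.ext ?_
  obtain ⟨a1, a4⟩ := pR_facts true
  have h1 : f4p1 < chevF4.nroots := a1
  have h4 : f4p4 < chevF4.nroots := a4
  have c14 : ∀ y, Commute (elN chevF4 K f4p4 (t : K)) (X f4p1 y) := fun y => by
    unfold elN
    rw [show chevF4.neg f4p4 = f4m4 by decide +kernel]
    exact ((X_comm' (by decide) _ _).mul_left (X_comm' (by decide) _ _)).mul_left (X_comm' (by decide) _ _)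
  have c1m : ∀ y, Commute (elN chevF4 K f4p1 ((t : K) ^ 2 ^ m)) (X f4m4 y) := fun y => by
    unfold elN
    rw [show chevF4.neg f4p1 = f4m1 by decide +kernel]
    exact ((X_comm' (by decide) _ _).mul_left (X_comm' (by decide) _ _)).mul_left (X_comm' (by decide) _ _)
  have s1 := ChevSL2.elN_conj_elX_self hc (F := K) h1 (t ^ 2 ^ m)
  have s4 := ChevSL2.elN_conj_elX_self hc (F := K) h4 t
  rw [Units.val_pow_eq_pow_val, show chevF4.neg f4p1 = f4m1 by decide +kernel] at s1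
  rw [show chevF4.neg f4p4 = f4m4 by decide +kernel] at s4
  simp only [neg_self hσ] at s1 s4
  rw [Subgroup.coe_mul, Subgroup.coe_mul, Subgroup.coe_inv, coe_NP, coe_pg, coe_pg]
  simp only [pR]
  set A := elN chevF4 K f4p1 ((t : K) ^ 2 ^ m)
  set B := elN chevF4 K f4p4 (t : K)
  rw [show A * B * (X f4p1 (x ^ 2 ^ m) * X f4p4 x) * (A * B)⁻¹ =
      A * (B * X f4p1 (x ^ 2 ^ m) * B⁻¹) * A⁻¹ * (A * (B * X f4p4 x * B⁻¹) * A⁻¹) by group,
    (c14 _).eq, mul_inv_cancel_right, s1, s4, (c1m _).eq, mul_inv_cancel_right, div_eq_inv_mul, mul_pow]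
  congr 3 <;> simp [← pow_mul, mul_comm, inv_pow]

end

end CfsgLib.ReeF4Out
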