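import Cfsg.Agent.Lib.ReeF4Out.Group

/-!
2F4(q): `U` is a Sylow subgroup, every automorphism becomes standard after an inner one, and a
standard automorphism preserves the four root groups of the orbits of nodes.
-/

set_option autoImplicit false
set_option linter.unusedSectionVars false
set_option maxRecDepth 4000

namespace CfsgLib.ReeF4Out

open Cfsg.Lie CfsgLib.Chev CfsgLib.ReeF4
open CfsgLib.ChevAut (Up Um)
open scoped Pointwise

variable {K : Type*} [Field K] [Fintype K] {m : ℕ} {σ : MulAut ↥(chevF4.group K)}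

/-- the root group of an orbit of nodes inside 2F4 -/
noncomputable abbrev Xs (σ : MulAut ↥(chevF4.group K)) (m : ℕ) (s : Bool) : Subgroup ↥(G1 K m) :=
  (V σ (JRoot s)).subgroupOf (G1 K m)

theorem node_sigs : ∀ b : Bool,
    sigs chevF4 tb (altW false 8) (pR b).1 = (pR !b).1 ∧
    sigs chevF4 tb (altW false 8) (pR b).2 = (pR !b).2 ∧
    sigs chevF4 tb (altW false 8) (qR b).1 = (qR !b).1 ∧
    sigs chevF4 tb (altW false 8) (qR b).2.1 = (qR !b).2.1 ∧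
    sigs chevF4 tb (altW false 8) (qR b).2.2.1 = (qR !b).2.2.1 ∧
    sigs chevF4 tb (altW false 8) (qR b).2.2.2 = (qR !b).2.2.2 ∧
    24 ≤ sigs chevF4 tb (jl true) (pR true).1 ∧ 24 ≤ sigs chevF4 tb (jl true) (pR true).2 := by
  decide +kernel

theorem keep_rho : ∀ s : Bool, ∀ r : Fin 48,
    (InvRoot chevF4 tb (jl s) r → InvRoot chevF4 tb (jl s) (rho r)) ∧
    (KeepRoot chevF4 tb (jl s) r → KeepRoot chevF4 tb (jl s) (rho r)) := by
  unfold InvRoot KeepRoot; decide +kernel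

section
variable (hσ : IsSigma m σ)
include hσ

theorem Xs_le_U (s : Bool) : Xs σ m s ≤ Uw K m := fun _ h =>
  uGen_mono (fun _ _ h => h.1) (Subgroup.mem_inf.1 (Subgroup.mem_subgroupOf.1 h)).1

theorem ng_conj_Xs {s : Bool} {x : ↥(G1 K m)} (h : x ∈ Xs σ m s) :
    ng hσ s * x * (ng hσ s)⁻¹ ∈ Vw K m :=
  conj_nProd_uGen _ (fun _ _ h => h.2) (Subgroup.mem_inf.1 (Subgroup.mem_subgroupOf.1 h)).1

/-- `U` splits into the root group of the orbit and a part normalised by the reflection -/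
theorem U_split (s : Bool) {u : ↥(G1 K m)} (hu : u ∈ Uw K m) : ∃ a ∈ Xs σ m s, ∃ r ∈ Uw K m,
    u = a * r ∧ (ng hσ s)⁻¹ * r * ng hσ s ∈ Uw K m := by
  obtain ⟨a, ha, r, hr, e⟩ := fixed_components hσ (P := PosR) (Q := InvRoot chevF4 tb (jl s))
    (R := KeepRoot chevF4 tb (jl s))
    ⟨fun _ _ h => h, fun r u v hr hu h1 h2 hv => by
      have := (closedPos_keep hc (T := tb) ([] : List (Fin chevF4.rank))).2 r u v hr hu ⟨h1, h1⟩ ⟨h2, h2⟩ hv
      exact this.1⟩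
    (closedPos_inv hc _) (closedPos_keep hc _)
    (fun r _ h1 h2 => absurd h1.2 (Nat.not_lt.2 h2.2))
    (fun r _ h => (Nat.lt_or_ge (sigs chevF4 tb (jl s) r) (chevF4.nroots / 2)).imp
      (fun g => ⟨h, g⟩) (fun g => ⟨h, g⟩))
    (fun r hr => (keep_rho s ⟨r, hr⟩).1) (fun r hr => (keep_rho s ⟨r, hr⟩).2)
    ((mem_U hσ).1 hu)
  have hrU : r ∈ V σ PosR := V_mono (fun _ _ h => h.1) hr
  refine ⟨⟨a, V_pos_le hσ (V_mono (fun _ _ h => h.1) ha)⟩, ha, ⟨r, V_pos_le hσ hrU⟩, hrU.1,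
    Subtype.ext e, ?_⟩
  refine conj_nProd_inv_uGen (jl s) (fun x hx h => ?_) (Subgroup.mem_inf.1 hr).1
  show 24 ≤ _
  rw [((jl_commute s) ⟨x, hx⟩).2.2]
  exact h.2

theorem ng_normH (s : Bool) {h : ↥(G1 K m)} (hh : h ∈ Hw K m) :
    (ng hσ s)⁻¹ * h * ng hσ s ∈ Hw K m := by
  have : ((ng hσ s)⁻¹ : GL chevF4.Idx K) ∈ chevF4.monomialSubgroup K :=
    inv_mem (nProd_mem_monomial hc _)
  simpa [Subgroup.mem_subgroupOf] using monomial_conj_diagonal hc this (Subgroup.mem_subgroupOf.1 hh)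

theorem cell_form (s : Bool) {b b' : ↥(G1 K m)} (hb : b ∈ Bw K m) (hb' : b' ∈ Bw K m) :
    ∃ a ∈ Xs σ m s, ∃ b'' ∈ Bw K m, b * ng hσ s * b' = a * ng hσ s * b'' := by
  obtain ⟨u, hu, h, hh, rfl⟩ := B_split hσ hb
  obtain ⟨a, ha, r, hr, rfl, hrn⟩ := U_split hσ s hu
  refine ⟨a, ha, _, mul_mem (mul_mem (U_le_B hσ hrn) (H_le_B hσ (ng_normH hσ s hh))) hb', ?_⟩
  group

theorem Xs_witness (s : Bool) : ∃ x ∈ Xs σ m s, x ≠ 1 := by
  cases s
  · exact ⟨_, pgv_pos_mem hσ 1, pg_ne_one hσ⟩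
  · exact ⟨_, qgv_pos_mem hσ 1 0, qg_ne_one hσ⟩

theorem nB_not_mem_V (s : Bool) {b : ↥(G1 K m)} (hb : b ∈ Bw K m) : ng hσ s * b ∉ Vw K m := by
  intro hy
  obtain ⟨x, hx, hne⟩ := Xs_witness hσ s
  set y := ng hσ s * b
  have h1 : b⁻¹ * x * b ∈ Uw K m := by simpa using B_conj_U hσ (inv_mem hb) (Xs_le_U hσ s hx)
  have h2 : b⁻¹ * x * b = y⁻¹ * (ng hσ s * x * (ng hσ s)⁻¹) * y := by simp [y, mul_assoc]
  have h3 := U_inf_V hσ h1 (h2 ▸ mul_mem (mul_mem (inv_mem hy) (ng_conj_Xs hσ hx)) hy)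
  refine hne ?_
  calc x = b * (b⁻¹ * x * b) * b⁻¹ := by group
    _ = 1 := by rw [h3]; group

/-- the opposite root group of an orbit of nodes -/
noncomputable def Ys (hσ : IsSigma m σ) (s : Bool) : Subgroup ↥(G1 K m) :=
  (Xs σ m s).map (MulAut.conj (ng hσ s)).toMonoidHom

theorem Ys_le_V (s : Bool) : Ys hσ s ≤ Vw K m := by
  rintro _ ⟨x, hx, rfl⟩
  exact ng_conj_Xs hσ hx

end

/-- what is used of the (B, N)-pair -/
structure HasBN (hσ : IsSigma m σ) (P : Cfsg.BNPair ↥(G1 K m)) : Prop where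
  B : P.B = Bw K m
  N : P.N = Nw K m
  S : P.S = Set.range (ng hσ)

section
variable {hσ : IsSigma m σ} {P : Cfsg.BNPair ↥(G1 K m)} (hP : HasBN hσ P)
include hP

theorem exists_bruhat (g : ↥(G1 K m)) :
    ∃ b ∈ Bw K m, ∃ n ∈ Nw K m, ∃ b' ∈ Bw K m, g = b * n * b' := by
  obtain ⟨w, hw⟩ := CfsgLib.BN.exists_cell P g
  obtain ⟨n, hn, rfl⟩ := CfsgLib.BN.exists_rep P w
  obtain ⟨b, hb, b', hb', e⟩ := (CfsgLib.BN.mem_cell_wk P hn).1 hw
  exact ⟨b, hP.B ▸ hb, n, hP.N ▸ hn, b', hP.B ▸ hb', e⟩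

theorem mem_B_of_conj {g : ↥(G1 K m)} (h : ∀ x ∈ Uw K m, g * x * g⁻¹ ∈ Bw K m) : g ∈ Bw K m := by
  obtain ⟨b, hb, n, hn, b', hb', rfl⟩ := exists_bruhat hP g
  refine mul_mem (mul_mem hb (mem_B_of_monomial hσ hn fun x hx => ?_)) hb'
  have hx' : b'⁻¹ * x * b' ∈ Uw K m := by simpa using B_conj_U hσ (inv_mem hb') hx
  have h1 := mul_mem (mul_mem (inv_mem hb) (h _ hx')) hb
  rwa [show b⁻¹ * (b * n * b' * (b'⁻¹ * x * b') * (b * n * b')⁻¹) * b = n * x * n⁻¹ by group] at h1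

theorem mem_B_iff (g : ↥(G1 K m)) : g ∈ Bw K m ↔ ∀ x ∈ Uw K m, g * x * g⁻¹ ∈ Uw K m :=
  ⟨fun hb _ hx => B_conj_U hσ hb hx, fun h => mem_B_of_conj hP fun x hx => U_le_B hσ (h x hx)⟩

theorem sylow_U : ∃ Q : Sylow 2 ↥(G1 K m), (Q : Subgroup ↥(G1 K m)) = Uw K m := by
  classical
  haveI : Fact (Nat.Prime 2) := ⟨Nat.prime_two⟩
  haveI : CharP K 2 := CfsgLib.ReeF4.charP_two hσ.card
  have hU : IsPGroup 2 (Uw K m) :=
    (Chev.isPGroup_pos hc (F := K) 2).of_injective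
      (⟨⟨fun x => ⟨((x : ↥(G1 K m)) : GL chevF4.Idx K), x.2⟩, rfl⟩, fun _ _ => rfl⟩ : ↥(Uw K m) →* ↥(Up chevF4 K))
      fun x y e => Subtype.ext (Subtype.ext (congrArg (fun z : ↥(Up chevF4 K) => z.1) e))
  have hUB := U_le_B hσ (K := K)
  have hmod := hU.card_modEq_card_fixedPoints (α := ↥(G1 K m) ⧸ Bw K m)
  have hfix : MulAction.fixedPoints (Uw K m) (↥(G1 K m) ⧸ Bw K m) =
      {((1 : ↥(G1 K m)) : ↥(G1 K m) ⧸ Bw K m)} := by
    ext z
    induction z using QuotientGroup.induction_on with | H g => ?_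
    rw [MulAction.mem_fixedPoints, Set.mem_singleton_iff, QuotientGroup.eq, mul_one]
    constructor
    · intro h
      refine mem_B_of_conj hP fun x hx => ?_
      have h1 : (((x⁻¹ * g : ↥(G1 K m))) : ↥(G1 K m) ⧸ Bw K m) = (g : ↥(G1 K m) ⧸ Bw K m) :=
        h ⟨x⁻¹, inv_mem hx⟩
      rw [QuotientGroup.eq] at h1
      simpa [mul_assoc] using h1
    · intro h u
      show ((((u : ↥(G1 K m)) * g : ↥(G1 K m))) : ↥(G1 K m) ⧸ Bw K m) = (g : ↥(G1 K m) ⧸ Bw K m)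
      rw [QuotientGroup.eq]
      have hg : g ∈ Bw K m := inv_mem_iff.1 h
      exact mul_mem (inv_mem (mul_mem (hUB u.2) hg)) hg
  have hidx : ¬ 2 ∣ (Bw K m).index := by
    intro hd
    rw [hfix, Nat.card_coe_set_eq, Set.ncard_singleton, ← Subgroup.index_eq_card] at hmod
    have h1 := (Nat.modEq_zero_iff_dvd.2 hd).symm.trans hmod
    exact absurd (Nat.modEq_zero_iff_dvd.1 h1.symm) (by decide)
  have hrel : ¬ 2 ∣ (Uw K m).relIndex (Bw K m) := by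
    intro hd
    have hcard : Nat.card (Bw K m) = Nat.card (Uw K m) * Nat.card (Hw K m) := by
      rw [← Nat.card_prod]
      refine (Nat.card_congr (Equiv.ofBijective (fun q : ↥(Uw K m) × ↥(Hw K m) => (⟨q.1.1 * q.2.1,
        mul_mem (hUB q.1.2) (H_le_B hσ q.2.2)⟩ : ↥(Bw K m))) ⟨?_, ?_⟩)).symm
      · rintro ⟨⟨u, hu⟩, ⟨h, hh⟩⟩ ⟨⟨v, hv⟩, ⟨k, hk⟩⟩ e
        have e' : u * h = v * k := congrArg Subtype.val e
        have h1 : v⁻¹ * u = k * h⁻¹ := by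
          rw [show v⁻¹ * u = v⁻¹ * (u * h) * h⁻¹ by group, e']; group
        obtain rfl : v = u := inv_mul_eq_one.1 (Subtype.ext
          (pos_inf_diag hc (Subgroup.mem_subgroupOf.1 (mul_mem (inv_mem hv) hu))
            (h1 ▸ Subgroup.mem_subgroupOf.1 (mul_mem hk (inv_mem hh)))))
        obtain rfl : h = k := mul_left_cancel e'
        rfl
      · rintro ⟨g, hg⟩
        obtain ⟨u, hu, h, hh, e⟩ := B_split hσ hg
        exact ⟨⟨⟨u, hu⟩, ⟨h, hh⟩⟩, Subtype.ext e.symm⟩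
    have h2 := Subgroup.card_mul_index ((Uw K m).subgroupOf (Bw K m))
    rw [Nat.card_congr (Subgroup.subgroupOfEquivOfLe hUB).toEquiv, hcard] at h2
    rw [Subgroup.relIndex, Nat.eq_of_mul_eq_mul_left Nat.card_pos h2] at hd
    exact ChevAut.diagonal_card_coprime hc 2 (hd.trans (Subgroup.card_dvd_of_injective
      (⟨⟨fun x => ⟨((x : ↥(G1 K m)) : GL chevF4.Idx K), x.2⟩, rfl⟩, fun _ _ => rfl⟩ :
        ↥(Hw K m) →* ↥(chevF4.diagonalSubgroup K))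
      fun x y e => Subtype.ext (Subtype.ext (congrArg (fun z : ↥(chevF4.diagonalSubgroup K) => z.1) e))))
  have hUidx : ¬ 2 ∣ (Uw K m).index := by
    rw [← Subgroup.relIndex_mul_index hUB]
    exact fun h => (Nat.prime_two.dvd_mul.1 h).elim hrel hidx
  exact ⟨hU.toSylow hUidx, rfl⟩

/-- every automorphism becomes standard after an inner one -/
theorem exists_std (θ : MulAut ↥(G1 K m)) : ∃ x : ↥(G1 K m), Std (MulAut.conj x * θ) := by
  classical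
  haveI : Fact (Nat.Prime 2) := ⟨Nat.prime_two⟩
  obtain ⟨Q, hQU⟩ := sylow_U hP
  let R : Sylow 2 ↥(G1 K m) := (Q.isPGroup'.map θ.toMonoidHom).toSylow (by
    rw [show (Q : Subgroup ↥(G1 K m)).map θ.toMonoidHom =
      (Q : Subgroup ↥(G1 K m)).map (θ : ↥(G1 K m) →* ↥(G1 K m)) from rfl, Subgroup.index_map_equiv]
    exact Q.not_dvd_index)
  have hR : (R : Subgroup ↥(G1 K m)) = (Q : Subgroup ↥(G1 K m)).map θ.toMonoidHom := rfl
  obtain ⟨g, hg⟩ := MulAction.exists_smul_eq ↥(G1 K m) R Q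
  set η := MulAut.conj g * θ with hη
  have hU : ∀ x, η x ∈ Uw K m ↔ x ∈ Uw K m := by
    intro x
    have h1 : η x ∈ (Q : Subgroup ↥(G1 K m)) ↔ θ x ∈ (R : Subgroup ↥(G1 K m)) := by
      rw [← hg, Sylow.coe_subgroup_smul, Subgroup.mem_pointwise_smul_iff_inv_smul_mem]
      simp [hη, mul_assoc]
    rwa [hR, Subgroup.mem_map_equiv, θ.symm_apply_apply, hQU] at h1
  obtain ⟨b, hb, k, hk, b', hb', e⟩ := exists_bruhat hP (η (n0 hσ))
  obtain ⟨d, hd, hkd⟩ := monomial_flip hσ hk fun x hx hmem => by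
    have hx' : b'⁻¹ * x * b' ∈ Uw K m := by simpa using B_conj_U hσ (inv_mem hb') hx
    obtain ⟨z, hz⟩ := η.surjective (b'⁻¹ * x * b')
    have hzU : z ∈ Uw K m := (hU z).1 (hz ▸ hx')
    have h1 : η (n0 hσ * z * (n0 hσ)⁻¹) ∈ Uw K m := by
      rw [map_mul, map_mul, map_inv, e, hz,
        show b * k * b' * (b'⁻¹ * x * b') * (b * k * b')⁻¹ = b * (k * x * k⁻¹) * b⁻¹ by group]
      exact B_conj_U hσ hb hmem
    have h2 := U_inf_V hσ ((hU _).1 h1) ((n0_conj hσ).1.2 hzU)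
    rw [conj_eq_one_iff] at h2
    rw [h2, map_one] at hz
    calc x = b' * (b'⁻¹ * x * b') * b'⁻¹ := by group
      _ = 1 := by rw [← hz]; group
  refine ⟨b⁻¹ * g, ?_⟩
  have happ : ∀ x, (MulAut.conj (b⁻¹ * g) * θ) x = b⁻¹ * η x * b := fun x => by
    simp [hη, mul_assoc]
  refine ⟨fun x => ?_, fun x => ?_⟩
  · rw [happ, ← hU x]
    simpa using B_conj_U_iff hσ (inv_mem hb) (η x)
  · set z := (n0 hσ)⁻¹ * x * n0 hσ with hz
    have hx : x = n0 hσ * z * (n0 hσ)⁻¹ := by rw [hz]; group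
    rw [happ, hx, (n0_conj hσ).1, ← hU z, map_mul, map_mul, map_inv, e,
      show b⁻¹ * (b * k * b' * η z * (b * k * b')⁻¹) * b = k * (b' * η z * b'⁻¹) * k⁻¹ by group, hkd,
      show d * n0 hσ * (b' * η z * b'⁻¹) * (d * n0 hσ)⁻¹ =
        d * (n0 hσ * (b' * η z * b'⁻¹) * (n0 hσ)⁻¹) * d⁻¹ by group,
      (H_conj hσ hd _).2, (n0_conj hσ).1, B_conj_U_iff hσ hb']

theorem std_mem_B {θ : MulAut ↥(G1 K m)} (h : Std θ) {x : ↥(G1 K m)} (hx : x ∈ Bw K m) :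
    θ x ∈ Bw K m := by
  refine (mem_B_iff hP _).2 fun y hy => ?_
  obtain ⟨z, rfl⟩ := θ.surjective y
  rw [← map_inv, ← map_mul, ← map_mul, h.1]
  exact (mem_B_iff hP x).1 hx z ((h.1 z).1 hy)

theorem ng_mem_S (s : Bool) : ng hσ s ∈ P.S := hP.S ▸ ⟨s, rfl⟩

theorem parabolic_cases (s : Bool) {z : ↥(G1 K m)} (hz : z ∈ P.parabolic {ng hσ s}) :
    z ∈ Bw K m ∨ ∃ b ∈ Bw K m, ∃ b' ∈ Bw K m, z = b * ng hσ s * b' := by
  have hs := ng_mem_S hP s
  obtain ⟨w, ⟨l, hl, rfl⟩, hzw⟩ :=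
    (CfsgLib.BN.mem_parabolic P (Set.singleton_subset_iff.2 hs)).1 hz
  have hw : ∀ l : List P.S, (∀ i ∈ l, i ∈ {i : P.S | (i : ↥(G1 K m)) ∈ ({ng hσ s} : Set _)}) →
      (l.map (CfsgLib.BN.sgen P)).prod = 1 ∨
        (l.map (CfsgLib.BN.sgen P)).prod = CfsgLib.BN.sgen P ⟨_, hs⟩ := by
    intro l
    induction l with
    | nil => exact fun _ => Or.inl rfl
    | cons a l ih =>
      intro h
      rw [List.forall_mem_cons] at h
      obtain rfl : a = ⟨_, hs⟩ := Subtype.ext h.1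
      rw [List.map_cons, List.prod_cons]
      rcases ih h.2 with e | e <;> rw [e]
      · exact Or.inr (mul_one _)
      · exact Or.inl (CfsgLib.BN.sgen_sq P _)
  rcases hw l hl with e | e <;> rw [e] at hzw
  · exact Or.inl (hP.B ▸ CfsgLib.BN.mem_cell_one P |>.1 hzw)
  · obtain ⟨b, hb, b', hb', e⟩ := (CfsgLib.BN.mem_cell_wk P (P.subset hs)).1 hzw
    exact Or.inr ⟨b, hP.B ▸ hb, b', hP.B ▸ hb', e⟩

theorem Xs_le_parabolic (s : Bool) : Xs σ m s ≤ P.parabolic {ng hσ s} := fun x hx =>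
  CfsgLib.BN.B_le_parabolic P _ (hP.B ▸ U_le_B hσ (Xs_le_U hσ s hx))

theorem Ys_cell (s : Bool) {y : ↥(G1 K m)} (hy : y ∈ Ys hσ s) (hne : y ≠ 1) :
    ∃ b ∈ Bw K m, ∃ b' ∈ Bw K m, y = b * ng hσ s * b' := by
  have hyP : y ∈ P.parabolic {ng hσ s} := by
    obtain ⟨x, hx, rfl⟩ := hy
    have hn := CfsgLib.BN.subset_parabolic P (Set.mem_singleton (ng hσ s))
    exact mul_mem (mul_mem hn (Xs_le_parabolic hP s hx)) (inv_mem hn)
  rcases parabolic_cases hP s hyP with h | h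
  · exact absurd (B_inf_V hσ h (Ys_le_V hσ s hy)) hne
  · exact h

/-- the opposite group meets `B n B` in the opposite root group -/
theorem neg_inf_cell (s : Bool) {y b b' : ↥(G1 K m)} (hy : y ∈ Vw K m) (hb : b ∈ Bw K m)
    (hb' : b' ∈ Bw K m) (he : y = b * ng hσ s * b') : y ∈ Ys hσ s := by
  classical
  obtain ⟨a, ha, c, hc', e⟩ := cell_form hσ s hb hb'
  rw [e] at he
  have hex : ∀ z : ↥(Ys hσ s), ∃ a : ↥(Xs σ m s), (z = 1 → a = 1) ∧ (z ≠ 1 → a ≠ 1 ∧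
      (ng hσ s)⁻¹ * (a : ↥(G1 K m))⁻¹ * z ∈ Bw K m) := by
    intro z
    by_cases hz : z = 1
    · exact ⟨1, fun _ => rfl, fun h => absurd hz h⟩
    obtain ⟨b, hb, b', hb', e⟩ := Ys_cell hP s z.2 (fun h => hz (Subtype.ext h))
    obtain ⟨a, ha, c, hc', e'⟩ := cell_form hσ s hb hb'
    refine ⟨⟨a, ha⟩, fun h => absurd h hz, fun _ => ⟨fun h => ?_, ?_⟩⟩
    · have : a = 1 := congrArg Subtype.val h
      rw [e', this, one_mul] at e
      exact nB_not_mem_V hσ s hc' (e ▸ Ys_le_V hσ s z.2)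
    · show (ng hσ s)⁻¹ * a⁻¹ * (z : ↥(G1 K m)) ∈ Bw K m
      rw [e, e']; simpa [mul_assoc] using hc'
  choose f hf1 hf2 using hex
  have hinj : Function.Injective f := by
    intro z z' h
    by_cases hz : z = 1
    · by_cases hz' : z' = 1
      · rw [hz, hz']
      · exact absurd (h ▸ hf1 z hz) (hf2 z' hz').1
    · by_cases hz' : z' = 1
      · exact absurd (h.symm ▸ hf1 z' hz') (hf2 z hz).1
      · have h1 := mul_mem (inv_mem (hf2 z hz).2) (hf2 z' hz').2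
        rw [h] at h1
        simp only [mul_inv_rev, inv_inv, mul_assoc, mul_inv_cancel_left, inv_mul_cancel_left] at h1
        exact Subtype.ext (inv_mul_eq_one.1 (B_inf_V hσ h1
          (mul_mem (inv_mem (Ys_le_V hσ s z.2)) (Ys_le_V hσ s z'.2))))
  have hcard : Nat.card ↥(Ys hσ s) = Nat.card ↥(Xs σ m s) :=
    Subgroup.card_map_of_injective (MulAut.conj (ng hσ s)).injective
  obtain ⟨z, hz⟩ := (hinj.bijective_of_nat_card_le (le_of_eq hcard.symm)).2 ⟨a, ha⟩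
  by_cases hz1 : z = 1
  · have : a = 1 := by
      have h := hf1 z hz1
      rw [hz] at h
      exact congrArg Subtype.val h
    rw [this, one_mul] at he
    exact absurd (he ▸ hy) (nB_not_mem_V hσ s hc')
  · have h := (hf2 z hz1).2
    rw [hz] at h
    have h1 := mul_mem (inv_mem h) hc'
    rw [show ((ng hσ s)⁻¹ * a⁻¹ * (z : ↥(G1 K m)))⁻¹ * c =
      (z : ↥(G1 K m))⁻¹ * (a * ng hσ s * c) by group, ← he] at h1
    rw [← inv_mul_eq_one.1 (B_inf_V hσ h1 (mul_mem (inv_mem (Ys_le_V hσ s z.2)) hy))]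
    exact z.2

theorem ng_ne : ng hσ false ≠ ng hσ true := by
  intro h
  have e := ng_conj_pg hσ true (1 : K)
  rw [h] at e
  have hU : ng hσ true * pg hσ true 1 * (ng hσ true)⁻¹ ∈ Uw K m := by
    obtain ⟨a1, a2⟩ := pR_facts true
    obtain ⟨-, -, -, -, -, -, h1, h2⟩ := node_sigs true
    show nJ K true * (pgv m true 1) * (nJ K true)⁻¹ ∈ Up chevF4 K
    rw [pgv, show ∀ a x y : GL chevF4.Idx K, a * (x * y) * a⁻¹ = a * x * a⁻¹ * (a * y * a⁻¹) from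
      fun a x y => by group, nProd_conj hσ _ a1, nProd_conj hσ _ a2]
    exact mul_mem (elX_mem_uGen (sigs_lt hc _ (show (pR true).1 < chevF4.nroots from a1))
      (P := fun r => chevF4.nroots / 2 ≤ r) h1 _) (elX_mem_uGen (sigs_lt hc _
      (show (pR true).2 < chevF4.nroots from a2)) (P := fun r => chevF4.nroots / 2 ≤ r) h2 _)
  rw [e] at hU
  have hV : pg hσ false (1 : K) ∈ Vw K m := by
    have := ng_conj_Xs hσ (s := false) (x := pg hσ true 1) (pgv_pos_mem hσ 1)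
    rwa [ng_conj_pg] at this
  have := U_inf_V hσ hU hV
  exact one_ne_zero (pg_inj hσ (this.trans (pg_zero hσ false).symm))

theorem card_Xs (s : Bool) : Nat.card ↥(Xs σ m s) = Fintype.card K ^ (cond s 2 1) := by
  rw [← (base_spec hσ s).2]
  exact Nat.card_congr (Subgroup.subgroupOfEquivOfLe (base_spec hσ s).1).toEquiv

/-- a standard automorphism preserves the opposite root groups of the orbits -/
theorem negNode_map {θ : MulAut ↥(G1 K m)} (hθ : Std θ) (s : Bool) {y : ↥(G1 K m)}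
    (hy : y ∈ Ys hσ s) : θ y ∈ Ys hσ s := by
  classical
  have main : ∀ {θ : MulAut ↥(G1 K m)}, Std θ → ∀ s, ∃ s', ∀ y ∈ Ys hσ s, θ y ∈ Ys hσ s' := by
    intro θ hθ s
    have hs := ng_mem_S hP s
    set M := (P.parabolic {ng hσ s}).map θ.toMonoidHom with hM
    have hBM : P.B ≤ M := fun x hx =>
      ⟨θ⁻¹ x, CfsgLib.BN.B_le_parabolic P _ (by rw [hP.B] at hx ⊢; exact std_mem_B hP hθ.inv hx),
        θ.apply_symm_apply x⟩
    have hsM : θ (ng hσ s) ∈ M := ⟨_, CfsgLib.BN.subset_parabolic P (Set.mem_singleton _), rfl⟩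
    have hnB : θ (ng hσ s) ∉ P.B := by
      intro h
      refine CfsgLib.BN.S_not_mem_B P hs ?_
      rw [hP.B] at h ⊢
      have := std_mem_B hP hθ.inv h
      rwa [show θ⁻¹ (θ (ng hσ s)) = ng hσ s from θ.symm_apply_apply _] at this
    obtain ⟨t, htS, htm⟩ : ∃ t ∈ P.S, t ∈ M := by
      by_contra hcon
      push Not at hcon
      have he : {t | t ∈ P.S ∧ t ∈ M} = ∅ := Set.eq_empty_of_forall_notMem fun t ht => hcon t ht.1 ht.2
      have h1 := CfsgLib.BN.eq_parabolic P hBM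
      rw [he] at h1
      have h2 : P.parabolic ∅ = P.B := by simp [Cfsg.BNPair.parabolic]
      rw [h2] at h1
      exact hnB (h1 ▸ hsM)
    obtain ⟨z, hz, hzt⟩ := htm
    rw [hP.S] at htS
    obtain ⟨s', rfl⟩ := htS
    have hzt' : θ z = ng hσ s' := hzt
    rcases parabolic_cases hP s hz with h | ⟨b, hb, b', hb', e⟩
    · refine absurd ?_ (CfsgLib.BN.S_not_mem_B P (ng_mem_S hP s'))
      rw [← hzt', hP.B]
      exact std_mem_B hP hθ h
    refine ⟨s', fun y hy => ?_⟩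
    by_cases hy1 : y = 1
    · rw [hy1, map_one]; exact one_mem _
    obtain ⟨c, hc', c', hc'', ey⟩ := Ys_cell hP s hy hy1
    refine neg_inf_cell hP s' ((hθ.2 _).2 (Ys_le_V hσ s hy))
      (b := θ (c * b⁻¹)) (b' := θ (b'⁻¹ * c')) (std_mem_B hP hθ (mul_mem hc' (inv_mem hb)))
      (std_mem_B hP hθ (mul_mem (inv_mem hb') hc'')) ?_
    rw [← hzt', ← map_mul, ← map_mul, e, ey]
    congr 1
    group
  have hcard : ∀ s, Nat.card ↥(Ys hσ s) = Fintype.card K ^ (cond s 2 1) := fun s =>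
    (Subgroup.card_map_of_injective (MulAut.conj (ng hσ s)).injective).trans (card_Xs hP s)
  obtain ⟨s', hs'⟩ := main hθ s
  suffices s' = s by exact this ▸ hs' y hy
  obtain ⟨t', ht'⟩ := main hθ true
  have ht : t' = true := by
    by_contra hne
    obtain rfl : t' = false := by simpa using hne
    have h1 := Nat.card_le_card_of_injective
      (fun y : ↥(Ys hσ true) => (⟨θ y, ht' y y.2⟩ : ↥(Ys hσ false)))
      fun a b e => Subtype.ext (θ.injective (congrArg Subtype.val e))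
    rw [hcard, hcard, cond_true, cond_false] at h1
    have : 2 ≤ Fintype.card K := Fintype.one_lt_card
    nlinarith
  subst ht
  cases s
  · by_contra hne
    obtain rfl : s' = true := by simpa using hne
    have hbij := (Finite.injective_iff_surjective
      (f := fun y : ↥(Ys hσ true) => (⟨θ y, ht' y y.2⟩ : ↥(Ys hσ true)))).1
      fun a b e => Subtype.ext (θ.injective (congrArg Subtype.val e))
    have hmem : pg hσ false (1 : K) ∈ Ys hσ false :=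
      ⟨pg hσ true 1, pgv_pos_mem hσ 1, ng_conj_pg hσ true 1⟩
    obtain ⟨w, hw⟩ := hbij ⟨θ (pg hσ false 1), hs' _ hmem⟩
    have hwe : (w : ↥(G1 K m)) = pg hσ false 1 := θ.injective (congrArg Subtype.val hw)
    have hne1 : pg hσ false (1 : K) ≠ 1 := fun h => one_ne_zero (pg_inj hσ (h.trans (pg_zero hσ false).symm))
    obtain ⟨b, hb, b', hb', e⟩ := Ys_cell hP false hmem hne1
    obtain ⟨c, hc', c', hc'', e'⟩ := Ys_cell hP true (hwe ▸ w.2) hne1
    have hS := CfsgLib.BN.eq_of_mem_cell P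
      ((CfsgLib.BN.mem_cell_wk P (P.subset (ng_mem_S hP false))).2 ⟨b, hP.B ▸ hb, b', hP.B ▸ hb', e⟩)
      ((CfsgLib.BN.mem_cell_wk P (P.subset (ng_mem_S hP true))).2 ⟨c, hP.B ▸ hc', c', hP.B ▸ hc'', e'⟩)
    exact ng_ne hP (congrArg Subtype.val (CfsgLib.BN.sgen_inj P
      (a₁ := ⟨_, ng_mem_S hP false⟩) (a₂ := ⟨_, ng_mem_S hP true⟩) hS))
  · by_contra hne
    obtain rfl : s' = false := by simpa using hne
    have h1 := Nat.card_le_card_of_injective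
      (fun y : ↥(Ys hσ true) => (⟨θ y, hs' y y.2⟩ : ↥(Ys hσ false)))
      fun a b e => Subtype.ext (θ.injective (congrArg Subtype.val e))
    rw [hcard, hcard, cond_true, cond_false] at h1
    have : 2 ≤ Fintype.card K := Fintype.one_lt_card
    nlinarith

theorem n0_conj_pg (b : Bool) (t : K) : n0 hσ * pg hσ b t * (n0 hσ)⁻¹ = pg hσ (!b) t := Subtype.ext (by
  obtain ⟨h1, h2⟩ := pR_facts b
  obtain ⟨e1, e2, -⟩ := node_sigs b
  rw [Subgroup.coe_mul, Subgroup.coe_mul, Subgroup.coe_inv, coe_pg, coe_pg, ← e1, ← e2,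
    ← nProd_conj hσ _ h1, ← nProd_conj hσ _ h2]
  show nProd chevF4 K (altW false 8) * _ * (nProd chevF4 K (altW false 8))⁻¹ = _
  group)

theorem n0_conj_qg (b : Bool) (x u : K) :
    n0 hσ * qg hσ b x u * (n0 hσ)⁻¹ = qg hσ (!b) x u := Subtype.ext (by
  obtain ⟨h1, h2, h3, h4⟩ := qR_facts b
  obtain ⟨-, -, e1, e2, e3, e4, -⟩ := node_sigs b
  rw [Subgroup.coe_mul, Subgroup.coe_mul, Subgroup.coe_inv, coe_qg, coe_qg, ← e1, ← e2, ← e3, ← e4,
    ← nProd_conj hσ _ h1, ← nProd_conj hσ _ h2, ← nProd_conj hσ _ h3, ← nProd_conj hσ _ h4]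
  show nProd chevF4 K (altW false 8) * _ * (nProd chevF4 K (altW false 8))⁻¹ = _
  group)

theorem mem_Ys_false {y : ↥(G1 K m)} : y ∈ Ys hσ false ↔ ∃ t, y = pg hσ false t := by
  refine ⟨?_, fun ⟨t, e⟩ => ⟨pg hσ true t, pgv_pos_mem hσ t, (ng_conj_pg hσ true t).trans e.symm⟩⟩
  rintro ⟨x, hx, rfl⟩
  obtain ⟨t, rfl⟩ := exists_pg hσ (Subgroup.mem_subgroupOf.1 hx)
  exact ⟨t, ng_conj_pg hσ true t⟩

theorem mem_Ys_true {y : ↥(G1 K m)} : y ∈ Ys hσ true ↔ ∃ x u, y = qg hσ false x u := by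
  refine ⟨?_, fun ⟨x, u, e⟩ => ⟨qg hσ true x u, qgv_pos_mem hσ x u, (ng_conj_qg hσ true x u).trans e.symm⟩⟩
  rintro ⟨z, hz, rfl⟩
  obtain ⟨x, u, rfl⟩ := exists_qg hσ (Subgroup.mem_subgroupOf.1 hz)
  exact ⟨x, u, ng_conj_qg hσ true x u⟩

theorem node_maps {θ : MulAut ↥(G1 K m)} (hθ : Std θ) (b : Bool) :
    (∀ t, ∃ t', θ (pg hσ b t) = pg hσ b t') ∧ ∀ x u, ∃ x' u', θ (qg hσ b x u) = qg hσ b x' u' := by
  cases b
  · exact ⟨fun t => (mem_Ys_false hP).1 (negNode_map hP hθ _ ((mem_Ys_false hP).2 ⟨t, rfl⟩)),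
      fun x u => (mem_Ys_true hP).1 (negNode_map hP hθ _ ((mem_Ys_true hP).2 ⟨x, u, rfl⟩))⟩
  have hη : Std (MulAut.conj (n0 hσ) * θ * (MulAut.conj (n0 hσ))⁻¹) := by
    have e : ∀ x, (MulAut.conj (n0 hσ) * θ * (MulAut.conj (n0 hσ))⁻¹) x =
        n0 hσ * θ ((n0 hσ)⁻¹ * x * n0 hσ) * (n0 hσ)⁻¹ := fun x => by simp [MulAut.conj_apply]
    refine ⟨fun x => ?_, fun x => ?_⟩ <;> rw [e]
    · rw [(n0_conj hσ).2, hθ.2, ← (n0_conj hσ).2,
        show n0 hσ * ((n0 hσ)⁻¹ * x * n0 hσ) * (n0 hσ)⁻¹ = x by group]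
    · rw [(n0_conj hσ).1, hθ.1, ← (n0_conj hσ).1,
        show n0 hσ * ((n0 hσ)⁻¹ * x * n0 hσ) * (n0 hσ)⁻¹ = x by group]
  have key : ∀ z w, (MulAut.conj (n0 hσ) * θ * (MulAut.conj (n0 hσ))⁻¹) (n0 hσ * z * (n0 hσ)⁻¹) =
      n0 hσ * w * (n0 hσ)⁻¹ → θ z = w := fun z w h => by
    simpa [MulAut.conj_apply, mul_assoc] using h
  refine ⟨fun t => ?_, fun x u => ?_⟩
  · obtain ⟨t', e⟩ := (mem_Ys_false hP).1 (negNode_map hP hη _ ((mem_Ys_false hP).2 ⟨t, rfl⟩))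
    exact ⟨t', key _ _ (by rw [n0_conj_pg hP, n0_conj_pg hP]; exact e)⟩
  · obtain ⟨x', u', e⟩ := (mem_Ys_true hP).1 (negNode_map hP hη _ ((mem_Ys_true hP).2 ⟨x, u, rfl⟩))
    exact ⟨x', u', key _ _ (by rw [n0_conj_qg hP, n0_conj_qg hP]; exact e)⟩

end

end CfsgLib.ReeF4Out
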