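import Cfsg.Agent.Lib.Twisted.F4U
import Cfsg.Agent.Lib.ChevSL2.Hom
import Cfsg.Agent.Lib.ChevAut.Sylow
import Cfsg.Agent.Lib.Chev.Structure

/-!
2F4(q): the elements of the root groups of the two orbits of nodes and the two torus maps.
-/

set_option autoImplicit false
set_option linter.unusedSectionVars false
set_option maxRecDepth 4000

namespace CfsgLib.ReeF4Out

open Cfsg.Lie CfsgLib.Chev CfsgLib.ReeF4

variable {K : Type*} [Field K] [Fintype K] {m : ℕ} {σ : MulAut ↥(chevF4.group K)}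

/-- the roots of the pair, positive for `true` -/
def pR : Bool → ℕ × ℕ
  | true => (f4p1, f4p4)
  | false => (f4m1, f4m4)

/-- the roots of the quadruple, positive for `true` -/
def qR : Bool → ℕ × ℕ × ℕ × ℕ
  | true => (f4a, f4b, f4ab, f4aab)
  | false => (f4ma, f4mb, f4mab, f4maab)

theorem qR_mem (b : Bool) : qR b ∈ quads := by cases b <;> simp [qR, quads]

theorem pR_mem (b : Bool) : pR b ∈ [(f4p1, f4p4), (f4m1, f4m4)] := by cases b <;> simp [pR]

theorem pR_facts : ∀ b : Bool, (pR b).1 < 48 ∧ (pR b).2 < 48 := by decide +kernel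

theorem qR_facts : ∀ b : Bool, (qR b).1 < 48 ∧ (qR b).2.1 < 48 ∧ (qR b).2.2.1 < 48 ∧
    (qR b).2.2.2 < 48 := by decide +kernel

/-- pairs of roots whose subgroups commute -/
def commPairs : List (ℕ × ℕ) :=
  [(33, 24), (24, 33), (14, 23), (23, 14), (33, 23), (23, 33), (24, 14), (14, 24)]

theorem commPairs_ok : ∀ p ∈ commPairs, p.1 < 48 ∧ p.2 < 48 ∧ p.2 ≠ chevF4.neg p.1 ∧
    chevF4.chainEntry p.1 p.2 = [] := by decide +kernel

theorem X_comm' {r s : ℕ} (h : (r, s) ∈ commPairs) (t u : K) : Commute (X r t) (X s u) := by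
  obtain ⟨h1, h2, h3, h4⟩ := commPairs_ok _ h
  exact CfsgLib.Twisted.commute_elX hc h1 h2 h3 h4 t u

/-- the commutator terms of the centre of a quadruple vanish modulo two -/
theorem centre_terms : ∀ b : Bool, ∀ i : Fin 2, ∀ j : Fin 2,
    let r := [(qR b).1, (qR b).2.1].get i
    let s := [(qR b).2.2.1, (qR b).2.2.2].get j
    r ≠ s ∧ r ≠ chevF4.neg s ∧ s ≠ r ∧ s ≠ chevF4.neg r ∧
      ∀ c ∈ chevF4.commTerms r s, c.1 < 48 ∧ c.2.1 % 2 = 0 := by decide +kernel

section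
variable (hσ : IsSigma m σ)
include hσ

theorem X_add {r : ℕ} (hr : r < 48) (t u : K) : X r t * X r u = X r (t + u) :=
  elX_add hc K (show r < chevF4.nroots from hr) t u

theorem X_zero' {r : ℕ} (hr : r < 48) : X r (0 : K) = 1 := elX_zero hc K (show r < chevF4.nroots from hr)

theorem X_self {r : ℕ} (hr : r < 48) (t : K) : X r t * X r t = 1 := by
  rw [X_add hσ hr, add_self hσ, X_zero' hσ hr]

theorem cast_even {c : ℤ} (h : c % 2 = 0) : (c : K) = 0 := by
  obtain ⟨d, rfl⟩ : (2 : ℤ) ∣ c := Int.dvd_of_emod_eq_zero h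
  rw [Int.cast_mul, Int.cast_ofNat, hσ.char2, zero_mul]

theorem X_centre (b : Bool) (i : Fin 2) (j : Fin 2) (t u : K) :
    Commute (X ([(qR b).2.2.1, (qR b).2.2.2].get j) t) (X ([(qR b).1, (qR b).2.1].get i) u) := by
  obtain ⟨-, -, h1, h2, h3⟩ := centre_terms b i j
  obtain ⟨ha, hb, hab, haab⟩ := qR_facts b
  set r := [(qR b).1, (qR b).2.1].get i with hr'
  set s := [(qR b).2.2.1, (qR b).2.2.2].get j with hs'
  have hr : r < chevF4.nroots := by rw [hr']; fin_cases i; exacts [ha, hb]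
  have hs : s < chevF4.nroots := by rw [hs']; fin_cases j; exacts [hab, haab]
  have h := elX_comm hc hcomm (F := K) hr hs h1 h2 u t
  show X s t * X r u = X r u * X s t
  rw [show X s t * X r u = _ from h]
  conv_rhs => rw [← mul_one (X r u * X s t)]
  congr 1
  rw [wordGL, ChevalleyDatum.commWord, List.map_map]
  refine List.prod_eq_one fun x hx => ?_
  obtain ⟨c, hc', rfl⟩ := List.mem_map.1 hx
  obtain ⟨hc1, hc2⟩ := h3 c hc'
  show elX chevF4 K c.1 _ = 1
  simp only [cast_even hσ hc2, zero_mul]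
  exact X_zero' hσ hc1

theorem nProd_conj (L : List (Fin chevF4.rank)) {r : ℕ} (hr : r < 48) (t : K) :
    nProd chevF4 K L * X r t * (nProd chevF4 K L)⁻¹ = X (sigs chevF4 tb L r) t := by
  obtain ⟨c, hc1, h⟩ := nProd_conj_elX hc (F := K) L (show r < chevF4.nroots from hr)
  rw [h]
  rcases hc1 with e | e <;> rw [e]
  · rw [one_mul]
  · rw [← neg_self hσ (1 : K), neg_neg, one_mul]

/-- the element of the pair -/
noncomputable def pgv (m : ℕ) (b : Bool) (t : K) : GL chevF4.Idx K :=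
  X (pR b).1 (t ^ 2 ^ m) * X (pR b).2 t

/-- the element of the pair in 2F4 -/
noncomputable def pg (b : Bool) (t : K) : ↥(G1 K m) := ⟨pgv m b t, by
  cases b
  exacts [(pairWord_mem hσ t).2, (pairWord_mem hσ t).1]⟩

/-- the element of the quadruple -/
noncomputable def qgv (m : ℕ) (b : Bool) (x u : K) : GL chevF4.Idx K :=
  quadNF m (qR b).1 (qR b).2.1 (qR b).2.2.1 (qR b).2.2.2 x u

/-- the element of the quadruple in 2F4 -/
noncomputable def qg (b : Bool) (x u : K) : ↥(G1 K m) := ⟨qgv m b x u, quadNF_mem hσ (qR_mem b) x u⟩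

theorem coe_pg (b : Bool) (t : K) :
    (pg hσ b t : GL chevF4.Idx K) = X (pR b).1 (t ^ 2 ^ m) * X (pR b).2 t := rfl

theorem coe_qg (b : Bool) (x u : K) : (qg hσ b x u : GL chevF4.Idx K) =
    X (qR b).2.1 x * X (qR b).1 (x ^ 2 ^ m) * X (qR b).2.2.1 u *
      X (qR b).2.2.2 (x ^ (2 * 2 ^ m + 1) + u ^ (2 * 2 ^ m)) := rfl

theorem pow_theta_add (k : ℕ) (t u : K) : (t + u) ^ 2 ^ k = t ^ 2 ^ k + u ^ 2 ^ k := by
  have := CfsgLib.ReeF4.charP_two hσ.card
  exact add_pow_char_pow t u 2 k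

theorem pg_mul (b : Bool) (t u : K) : pg hσ b t * pg hσ b u = pg hσ b (t + u) := by
  obtain ⟨h1, h2⟩ := pR_facts b
  refine Subtype.ext ?_
  rw [Subgroup.coe_mul, coe_pg, coe_pg, coe_pg, pow_theta_add hσ, ← X_add hσ h1, ← X_add hσ h2]
  have : Commute (X (pR b).2 t) (X (pR b).1 (u ^ 2 ^ m)) :=
    X_comm' (by cases b <;> decide) _ _
  exact Commute.mul_mul_mul_comm this.eq _ _

theorem pg_zero (b : Bool) : pg hσ b 0 = 1 := Subtype.ext (by
  obtain ⟨h1, h2⟩ := pR_facts b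
  rw [coe_pg, zero_pow (pow_ne_zero _ two_ne_zero), X_zero' hσ h1, X_zero' hσ h2, one_mul]; rfl)

theorem pg_self (b : Bool) (t : K) : pg hσ b t * pg hσ b t = 1 := by
  rw [pg_mul, add_self hσ, pg_zero]

theorem pg_inv (b : Bool) (t : K) : (pg hσ b t)⁻¹ = pg hσ b t :=
  inv_eq_of_mul_eq_one_right (pg_self hσ b t)

theorem qg_zero (b : Bool) : qg hσ b 0 0 = 1 := Subtype.ext (by
  obtain ⟨h1, h2, h3, h4⟩ := qR_facts b
  rw [coe_qg, zero_pow (pow_ne_zero _ two_ne_zero), zero_pow (Nat.succ_ne_zero _),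
    zero_pow (mul_ne_zero two_ne_zero (pow_ne_zero _ two_ne_zero)), add_zero, X_zero' hσ h1,
    X_zero' hσ h2, X_zero' hσ h3, X_zero' hσ h4]
  simp)

theorem pow_tt (x : K) : (x ^ 2 ^ m) ^ (2 * 2 ^ m) = x := by
  rw [← pow_mul, show 2 ^ m * (2 * 2 ^ m) = 2 * 2 ^ m * 2 ^ m by ring, pow_cycle hσ]

theorem qg_mul (b : Bool) (x u y v : K) :
    qg hσ b x u * qg hσ b y v = qg hσ b (x + y) (u + v + x ^ 2 ^ m * y) := by
  obtain ⟨ha, hb, hab, haab⟩ := qR_facts b
  refine Subtype.ext ?_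
  simp only [Subgroup.coe_mul, coe_qg]
  set A := (qR b).1; set B := (qR b).2.1; set C := (qR b).2.2.1; set E := (qR b).2.2.2
  have cC : ∀ s t, X C s * X B t = X B t * X C s := fun s t => (X_centre hσ b 1 0 s t).eq
  have cC' : ∀ s t, X C s * X A t = X A t * X C s := fun s t => (X_centre hσ b 0 0 s t).eq
  have cE : ∀ s t, X E s * X B t = X B t * X E s := fun s t => (X_centre hσ b 1 1 s t).eq
  have cE' : ∀ s t, X E s * X A t = X A t * X E s := fun s t => (X_centre hσ b 0 1 s t).eq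
  have hCE : ∀ s t, X E s * X C t = X C t * X E s := fun s t => by
    have := (quad_facts _ (qR_mem b)).2.2.2.2.2.2.2.2.2.2.2.2.2.2.1
    exact ((X_comm (K := K) this t s).symm).eq
  have hsw : X A (x ^ 2 ^ m) * X B y =
      X B y * X A (x ^ 2 ^ m) * X C (x ^ 2 ^ m * y) * X E ((x ^ 2 ^ m) ^ 2 * y) :=
    quad_swap hσ (qR_mem b) (x ^ 2 ^ m) y
  calc X B x * X A (x ^ 2 ^ m) * X C u * X E (x ^ (2 * 2 ^ m + 1) + u ^ (2 * 2 ^ m)) *
        (X B y * X A (y ^ 2 ^ m) * X C v * X E (y ^ (2 * 2 ^ m + 1) + v ^ (2 * 2 ^ m)))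
      = X B x * (X A (x ^ 2 ^ m) * X B y) * X A (y ^ 2 ^ m) *
        (X C u * X C v * (X E (x ^ (2 * 2 ^ m + 1) + u ^ (2 * 2 ^ m)) *
          X E (y ^ (2 * 2 ^ m + 1) + v ^ (2 * 2 ^ m)))) := by
        simp only [mul_assoc]
        congr 2
        rw [← mul_assoc (X E _) (X B y), cE, mul_assoc (X B y), ← mul_assoc (X C u) (X B y), cC,
          mul_assoc (X B y), ← mul_assoc (X E _) (X A _), cE', mul_assoc (X A _),
          ← mul_assoc (X C u) (X A _), cC', mul_assoc (X A _), ← mul_assoc (X E _) (X C v), hCE,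
          mul_assoc (X C v)]
    _ = X B x * X B y * (X A (x ^ 2 ^ m) * X A (y ^ 2 ^ m)) *
        (X C (x ^ 2 ^ m * y) * (X C u * X C v) * (X E ((x ^ 2 ^ m) ^ 2 * y) *
          (X E (x ^ (2 * 2 ^ m + 1) + u ^ (2 * 2 ^ m)) * X E (y ^ (2 * 2 ^ m + 1) + v ^ (2 * 2 ^ m))))) := by
        rw [hsw]
        simp only [mul_assoc]
        congr 3
        rw [← mul_assoc (X E _) (X A _), cE', mul_assoc (X A _), ← mul_assoc (X C _) (X A _), cC',
          mul_assoc (X A _), ← mul_assoc (X E _) (X C u), hCE, mul_assoc (X C u),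
          ← mul_assoc (X E _) (X C v), hCE, mul_assoc (X C v)]
    _ = _ := by
        rw [X_add hσ hb, X_add hσ ha, X_add hσ hab, X_add hσ hab, X_add hσ haab, X_add hσ haab,
          ← pow_theta_add hσ, ← mul_assoc]
        congr 2
        · congr 1; ring
        · have e1 : ∀ z : K, z ^ (2 * 2 ^ m) = z ^ 2 ^ (m + 1) := fun z => by rw [pow_succ']
          have e2 : ∀ z w : K, (z + w) ^ (2 * 2 ^ m) = z ^ (2 * 2 ^ m) + w ^ (2 * 2 ^ m) := fun z w => by
            rw [e1, e1, e1, pow_theta_add hσ]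
          rw [← pow_mul x (2 ^ m) 2, mul_comm (2 ^ m) 2, pow_succ, pow_succ, pow_succ, e2, e2, e2,
            mul_pow (x ^ 2 ^ m), pow_tt hσ]
          linear_combination -(x * y ^ (2 * 2 ^ m)) * hσ.char2

theorem qg_sq (b : Bool) (x u : K) : qg hσ b x u * qg hσ b x u = qg hσ b 0 (x ^ (2 ^ m + 1)) := by
  rw [qg_mul, add_self hσ, add_self hσ, zero_add, pow_succ]

theorem pg_mem_grp (b : Bool) (t : K) : pgv m b t ∈ chevF4.group K :=
  fixF_le_group (G1_le_fix hσ (pg hσ b t).2)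

/-- the monomial element of a node orbit in 2F4 -/
noncomputable def ng (s : Bool) : ↥(G1 K m) := ⟨nJ K s, nJ_mem hσ s⟩

theorem ng_sigs : ∀ s : Bool, ∀ b : Bool,
    (s = false → sigs chevF4 tb (jl s) (pR b).1 = (pR !b).1 ∧
      sigs chevF4 tb (jl s) (pR b).2 = (pR !b).2) ∧
    (s = true → sigs chevF4 tb (jl s) (qR b).1 = (qR !b).1 ∧
      sigs chevF4 tb (jl s) (qR b).2.1 = (qR !b).2.1 ∧
      sigs chevF4 tb (jl s) (qR b).2.2.1 = (qR !b).2.2.1 ∧
      sigs chevF4 tb (jl s) (qR b).2.2.2 = (qR !b).2.2.2) := by decide +kernel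

theorem ng_conj_pg (b : Bool) (t : K) :
    ng hσ false * pg hσ b t * (ng hσ false)⁻¹ = pg hσ (!b) t := Subtype.ext (by
  obtain ⟨h1, h2⟩ := pR_facts b
  obtain ⟨e1, e2⟩ := (ng_sigs hσ false b).1 rfl
  rw [Subgroup.coe_mul, Subgroup.coe_mul, Subgroup.coe_inv, coe_pg, coe_pg, ← e1, ← e2,
    ← nProd_conj hσ _ h1, ← nProd_conj hσ _ h2]
  show nJ K false * _ * (nJ K false)⁻¹ = _
  group)

theorem ng_conj_qg (b : Bool) (x u : K) :
    ng hσ true * qg hσ b x u * (ng hσ true)⁻¹ = qg hσ (!b) x u := Subtype.ext (by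
  obtain ⟨h1, h2, h3, h4⟩ := qR_facts b
  obtain ⟨e1, e2, e3, e4⟩ := (ng_sigs hσ true b).2 rfl
  rw [Subgroup.coe_mul, Subgroup.coe_mul, Subgroup.coe_inv, coe_qg, coe_qg, ← e1, ← e2, ← e3, ← e4,
    ← nProd_conj hσ _ h1, ← nProd_conj hσ _ h2, ← nProd_conj hσ _ h3, ← nProd_conj hσ _ h4]
  show nJ K true * _ * (nJ K true)⁻¹ = _
  group)

theorem pgv_pos_mem (t : K) : pgv m true t ∈ V σ (JRoot false) := by
  refine ⟨?_, pair_fixed hσ (pR_mem true) t⟩
  refine mul_mem (elX_mem_uGen (show f4p1 < chevF4.nroots from (pR_facts true).1) ?_ _)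
    (elX_mem_uGen (show f4p4 < chevF4.nroots from (pR_facts true).2) ?_ _)
  · exact (jl_roots ⟨f4p1, by decide⟩).1.2 (by simp)
  · exact (jl_roots ⟨f4p4, by decide⟩).1.2 (by simp)

theorem qgv_pos_mem (x u : K) : qgv m true x u ∈ V σ (JRoot true) := by
  refine ⟨?_, quadNF_fixed hσ (qR_mem true) x u⟩
  have hm : ∀ r : Fin 48, (r : ℕ) ∈ [f4a, f4b, f4ab, f4aab] → JRoot true r := fun r h => (jl_roots r).2.2 h
  refine mul_mem (mul_mem (mul_mem ?_ ?_) ?_) ?_
  · exact elX_mem_uGen (show f4b < chevF4.nroots from by decide) (hm ⟨f4b, by decide⟩ (by simp)) _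
  · exact elX_mem_uGen (show f4a < chevF4.nroots from by decide) (hm ⟨f4a, by decide⟩ (by simp)) _
  · exact elX_mem_uGen (show f4ab < chevF4.nroots from by decide) (hm ⟨f4ab, by decide⟩ (by simp)) _
  · exact elX_mem_uGen (show f4aab < chevF4.nroots from by decide) (hm ⟨f4aab, by decide⟩ (by simp)) _

theorem pg_inj {b : Bool} {t u : K} (h : pg hσ b t = pg hσ b u) : t = u := by
  suffices hpos : ∀ t u : K, pg hσ true t = pg hσ true u → t = u by
    cases b
    · refine hpos t u ?_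
      have := congrArg (fun g => ng hσ false * g * (ng hσ false)⁻¹) h
      simpa [ng_conj_pg hσ] using this
    · exact hpos t u h
  intro t u h
  have hl := jRoot_list hσ (s := false)
  have hcl : ClosedPos chevF4 tb (JRoot false) := closedPos_inv hc _
  have key : ∀ t : K, uProd chevF4 K (rootsFrom chevF4 (JRoot false) 0)
      (fun r => if r = f4p1 then t ^ 2 ^ m else t) = pgv m true t := fun t => by
    rw [hl]
    simp only [uProd, cond_false, List.map_cons, List.map_nil, List.prod_cons, List.prod_nil, mul_one,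
      if_neg (show f4p4 ≠ f4p1 by decide), if_true]
    exact (X_comm' (show (f4p4, f4p1) ∈ commPairs by decide) _ _).eq
  have e := uProd_inj hc hcl.1 0 ((key t).trans ((congrArg Subtype.val h).trans (key u).symm)) f4p4
    (by rw [hl]; simp)
  simpa [show f4p4 ≠ f4p1 by decide] using e

theorem qg_inj {b : Bool} {x u y v : K} (h : qg hσ b x u = qg hσ b y v) : x = y ∧ u = v := by
  suffices hpos : ∀ x u y v : K, qg hσ true x u = qg hσ true y v → x = y ∧ u = v by
    cases b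
    · refine hpos x u y v ?_
      have := congrArg (fun g => ng hσ true * g * (ng hσ true)⁻¹) h
      simpa [ng_conj_qg hσ] using this
    · exact hpos x u y v h
  intro x u y v h
  have hl := jRoot_list hσ (s := true)
  have hcl : ClosedPos chevF4 tb (JRoot true) := closedPos_inv hc _
  let par : K → K → ℕ → K := fun x u r => if r = f4b then x else if r = f4a then x ^ 2 ^ m
    else if r = f4ab then u else x ^ (2 * 2 ^ m + 1) + u ^ (2 * 2 ^ m)
  have key : ∀ x u : K, uProd chevF4 K (rootsFrom chevF4 (JRoot true) 0) (par x u) = qgv m true x u :=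
    fun x u => by rw [hl]; simp [uProd, par, mul_assoc, qgv, quadNF, qR, show f4a ≠ f4b by decide,
      show f4ab ≠ f4b by decide, show f4ab ≠ f4a by decide, show f4aab ≠ f4b by decide,
      show f4aab ≠ f4a by decide, show f4aab ≠ f4ab by decide]
  have e := uProd_inj hc hcl.1 0 ((key x u).trans ((congrArg Subtype.val h).trans (key y v).symm))
  exact ⟨e f4b (by rw [hl]; simp), e f4ab (by rw [hl]; simp)⟩

theorem exists_pg {g : ↥(G1 K m)} (h : (g : GL chevF4.Idx K) ∈ V σ (JRoot false)) :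
    ∃ t, g = pg hσ true t := by
  have hb := (base_spec hσ false).2
  rw [cond_false, pow_one, ← Nat.card_eq_fintype_card] at hb
  haveI : Finite ↥(V σ (JRoot false)) := Nat.finite_of_card_ne_zero (by rw [hb]; exact Nat.card_pos.ne')
  obtain ⟨t, ht⟩ := (Function.Injective.bijective_of_nat_card_le
    (f := fun t : K => (⟨_, pgv_pos_mem hσ t⟩ : ↥(V σ (JRoot false))))
    (fun a b e => pg_inj hσ (b := true) (Subtype.ext (congrArg Subtype.val e :))) (le_of_eq hb)).2 ⟨_, h⟩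
  exact ⟨t, Subtype.ext (congrArg Subtype.val ht).symm⟩

theorem exists_qg {g : ↥(G1 K m)} (h : (g : GL chevF4.Idx K) ∈ V σ (JRoot true)) :
    ∃ x u, g = qg hσ true x u := by
  have hb := (base_spec hσ true).2
  rw [cond_true, pow_two, ← Nat.card_eq_fintype_card, ← Nat.card_prod] at hb
  haveI : Finite ↥(V σ (JRoot true)) := Nat.finite_of_card_ne_zero (by rw [hb]; exact Nat.card_pos.ne')
  obtain ⟨p, hp⟩ := (Function.Injective.bijective_of_nat_card_le
    (f := fun p : K × K => (⟨_, qgv_pos_mem hσ p.1 p.2⟩ : ↥(V σ (JRoot true))))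
    (fun a b e => Prod.ext (qg_inj hσ (b := true) (Subtype.ext (congrArg Subtype.val e :))).1
      (qg_inj hσ (b := true) (Subtype.ext (congrArg Subtype.val e :))).2) (le_of_eq hb)).2 ⟨_, h⟩
  exact ⟨p.1, p.2, Subtype.ext (congrArg Subtype.val hp).symm⟩

theorem ng_true_eq : ng hσ true = qg hσ true 1 0 * qg hσ false 0 1 * qg hσ true 1 1 := by
  refine Subtype.ext ?_
  obtain ⟨-, -, w3, -⟩ := word_checks
  have h := word_eq_of_test hc hσ.char2 w3
  show nJ K true = _
  rw [nJ, nProd_letters hσ]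
  show (((nLetters chevF4 1 ++ (nLetters chevF4 2 ++ (nLetters chevF4 1 ++ (nLetters chevF4 2 ++ [])))) :
    List ℕ).map fun r => X r (1 : K)).prod = _
  rw [List.append_nil, ← List.append_assoc, ← List.append_assoc, h]
  have e : ∀ b x u, (qg hσ b x u : GL chevF4.Idx K) = X (qR b).1 (x ^ 2 ^ m) * X (qR b).2.1 x *
      X (qR b).2.2.1 (x ^ (2 ^ m + 1) + u) * X (qR b).2.2.2 (u ^ (2 * 2 ^ m)) := fun b x u =>
    (quad_word_eq hσ (qR_mem b) x u).symm
  rw [Subgroup.coe_mul, Subgroup.coe_mul, e, e, e]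
  obtain ⟨h1, h2, h3, h4⟩ := qR_facts false
  obtain ⟨-, -, h7, h8⟩ := qR_facts true
  have z : (2 : ℕ) ^ m ≠ 0 := pow_ne_zero _ two_ne_zero
  simp only [qR] at h1 h2 h3 h4 h7 h8
  simp [qR, zero_pow z, add_self hσ, X_zero' hσ h1, X_zero' hσ h2, X_zero' hσ h7, X_zero' hσ h8,
    mul_assoc]

/-- the monomial element of the pair with parameter `t` -/
noncomputable def NP (t : K) : ↥(G1 K m) := pg hσ true t * pg hσ false t⁻¹ * pg hσ true t

theorem coe_NP (t : K) : (NP hσ t : GL chevF4.Idx K) =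
    elN chevF4 K f4p1 (t ^ 2 ^ m) * elN chevF4 K f4p4 t := by
  rw [NP, Subgroup.coe_mul, Subgroup.coe_mul, coe_pg, coe_pg]
  simp only [pR, elN, show chevF4.neg f4p1 = f4m1 by decide +kernel,
    show chevF4.neg f4p4 = f4m4 by decide +kernel, neg_self hσ, inv_pow]
  have c1 := fun t u : K => (X_comm' (K := K) (show (f4p4, f4m1) ∈ commPairs by decide) t u).eq
  have c2 := fun t u : K => (X_comm' (K := K) (show (f4p4, f4p1) ∈ commPairs by decide) t u).eq
  have c3 := fun t u : K => (X_comm' (K := K) (show (f4m4, f4p1) ∈ commPairs by decide) t u).eq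
  simp only [mul_assoc]
  congr 1
  rw [← mul_assoc (X f4p4 t) (X f4m1 _), c1, mul_assoc (X f4m1 _)]
  congr 1
  rw [← mul_assoc (X f4m4 _) (X f4p1 _), c3, mul_assoc (X f4p1 _), ← mul_assoc (X f4p4 t) (X f4p1 _), c2,
    mul_assoc (X f4p1 _)]

end

end CfsgLib.ReeF4Out
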