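import Cfsg.Agent.Lib.ReeF4Out.Torus
import Cfsg.Agent.Lib.BN.Basic

/-!
2F4(q): the Borel subgroup, the flip, automorphisms normalising `U` and its opposite after an inner
one, and the root groups of the two orbits of nodes inside the parabolic subgroups.
-/

set_option autoImplicit false
set_option linter.unusedSectionVars false
set_option maxRecDepth 4000

namespace CfsgLib.ReeF4Out

open Cfsg.Lie CfsgLib.Chev CfsgLib.ReeF4
open CfsgLib.ChevAut (Up Um)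
open scoped Pointwise

variable {K : Type*} [Field K] [Fintype K] {m : ℕ} {σ : MulAut ↥(chevF4.group K)}

/-- the part in `U` -/
noncomputable abbrev Uw (K : Type*) [Field K] (m : ℕ) : Subgroup ↥(G1 K m) :=
  (Up chevF4 K).subgroupOf (G1 K m)

/-- the part in the opposite group -/
noncomputable abbrev Vw (K : Type*) [Field K] (m : ℕ) : Subgroup ↥(G1 K m) :=
  (Um chevF4 K).subgroupOf (G1 K m)

/-- the part in `B` -/
noncomputable abbrev Bw (K : Type*) [Field K] (m : ℕ) : Subgroup ↥(G1 K m) :=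
  (chevF4.borelSubgroup K).subgroupOf (G1 K m)

/-- the diagonal part -/
noncomputable abbrev Hw (K : Type*) [Field K] (m : ℕ) : Subgroup ↥(G1 K m) :=
  (chevF4.diagonalSubgroup K).subgroupOf (G1 K m)

/-- the monomial part -/
noncomputable abbrev Nw (K : Type*) [Field K] (m : ℕ) : Subgroup ↥(G1 K m) :=
  (chevF4.monomialSubgroup K).subgroupOf (G1 K m)

/-- `θ` normalises both unipotent subgroups -/
def Std (θ : MulAut ↥(G1 K m)) : Prop :=
  (∀ x, θ x ∈ Uw K m ↔ x ∈ Uw K m) ∧ ∀ x, θ x ∈ Vw K m ↔ x ∈ Vw K m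

theorem Std.mul {θ η : MulAut ↥(G1 K m)} (h : Std θ) (h' : Std η) : Std (θ * η) :=
  ⟨fun x => (h.1 (η x)).trans (h'.1 x), fun x => (h.2 (η x)).trans (h'.2 x)⟩

theorem Std.inv {θ : MulAut ↥(G1 K m)} (h : Std θ) : Std θ⁻¹ := by
  have e : ∀ x, θ (θ⁻¹ x) = x := fun x => θ.apply_symm_apply x
  exact ⟨fun x => by rw [← h.1 (θ⁻¹ x), e], fun x => by rw [← h.2 (θ⁻¹ x), e]⟩

theorem w0_facts : ∀ i : Fin chevF4.rank,
    sigs chevF4 tb (altW false 8) (chevF4.simple i) = chevF4.neg (chevF4.simple i) ∧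
    ∃ s : Bool, chevF4.simple i.val = cond s f4a f4p1 ∨ chevF4.simple i.val = cond s f4b f4p4 := by
  decide +kernel

theorem w0_flip : ∀ r : Fin 48,
    (24 ≤ sigs chevF4 tb (altW false 8) r ↔ (r : ℕ) < 24) := by decide +kernel

theorem rho_simple : rho f4p1 = f4p4 ∧ rho f4p4 = f4p1 ∧ rho f4a = f4b ∧ rho f4b = f4a := by
  decide +kernel

/-- the two simple roots of an orbit -/
def sR : Bool → ℕ × ℕ
  | false => (f4p1, f4p4)
  | true => (f4a, f4b)

theorem sR_facts : ∀ s : Bool, (sR s).1 < 48 ∧ (sR s).2 < 48 ∧ rho (sR s).1 = (sR s).2 ∧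
    rho (sR s).2 = (sR s).1 := by decide +kernel

section
variable (hσ : IsSigma m σ)
include hσ

theorem simg_diagonal {g : GL chevF4.Idx K} (hg : g ∈ chevF4.diagonalSubgroup K) :
    g ∈ chevF4.group K ∧ simg σ g ∈ chevF4.diagonalSubgroup K := by
  induction hg using Subgroup.closure_induction with
  | mem x hx =>
    obtain ⟨r, t, hr, ht, hx⟩ := hx
    have e : x = elN chevF4 K r t * elN chevF4 K r (-1) := by
      ext1; rw [hx]; exact (coe_elH hc hr t).symm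
    have hmem : ∀ u, elN chevF4 K r u ∈ chevF4.group K := fun u =>
      mul_mem (mul_mem (elX_mem_group hc hr u) (elX_mem_group hc (neg_lt hc hr) _)) (elX_mem_group hc hr u)
    refine ⟨e ▸ mul_mem (hmem t) (hmem _), ?_⟩
    rw [e, simg_mul (hmem t) (hmem _), simg_elN hσ hr, simg_elN hσ hr]
    have hr' : rho r < chevF4.nroots := rho_lt hr
    have := elN_div_mem hc (F := K) hr' (a := phi m r t) (b := phi m r 1) (pow_ne_zero _ ht)
      (by simp [phi])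
    rw [elN_inv hc hr'] at this
    simpa [neg_self hσ] using this
  | one => exact ⟨one_mem _, by rw [simg_one]; exact one_mem _⟩
  | mul x y _ _ hx hy =>
    exact ⟨mul_mem hx.1 hy.1, by rw [simg_mul hx.1 hy.1]; exact mul_mem hx.2 hy.2⟩
  | inv x _ hx => exact ⟨inv_mem hx.1, by rw [simg_inv hx.1]; exact inv_mem hx.2⟩

theorem mem_U {x : ↥(G1 K m)} : x ∈ Uw K m ↔ (x : GL chevF4.Idx K) ∈ V σ PosR :=
  ⟨fun h => Subgroup.mem_inf.2 ⟨Subgroup.mem_subgroupOf.1 h, G1_le_fix hσ x.2⟩,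
    fun h => (Subgroup.mem_inf.1 h).1⟩

theorem B_split {b : ↥(G1 K m)} (hb : b ∈ Bw K m) : ∃ u ∈ Uw K m, ∃ h ∈ Hw K m, b = u * h := by
  obtain ⟨u, hu, h, hh, e⟩ := (mem_borel hc).1 (Subgroup.mem_subgroupOf.1 hb)
  obtain ⟨hg, hs⟩ := simg_diagonal hσ hh
  have gu : u ∈ chevF4.group K := uGen_le_group _ hu
  have hfix := (mem_fixF.1 (G1_le_fix hσ b.2)).2
  rw [e, simg_mul gu hg] at hfix
  have hsu : simg σ u ∈ uGen chevF4 K PosR :=
    simg_mem_uGen hσ (fun r hr (h : 24 ≤ r) => (rho_pos hr).2 h) hu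
  have e1 : u⁻¹ * simg σ u = h * (simg σ h)⁻¹ := by
    rw [inv_mul_eq_iff_eq_mul, ← mul_assoc, ← hfix, mul_inv_cancel_right]
  have hu1 := pos_inf_diag hc (mul_mem (inv_mem hu) hsu) (e1 ▸ mul_mem hh (inv_mem hs))
  have hu2 : u ∈ V σ PosR := ⟨hu, mem_fixF.2 ⟨gu, (inv_mul_eq_one.1 hu1).symm⟩⟩
  let u1 : ↥(G1 K m) := ⟨u, V_pos_le hσ hu2⟩
  refine ⟨u1, hu, u1⁻¹ * b, ?_, ?_⟩
  · show u⁻¹ * (b : GL chevF4.Idx K) ∈ chevF4.diagonalSubgroup K
    rw [e, inv_mul_cancel_left]; exact hh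
  · rw [mul_inv_cancel_left]

theorem B_conj_U {b x : ↥(G1 K m)} (hb : b ∈ Bw K m) (hx : x ∈ Uw K m) : b * x * b⁻¹ ∈ Uw K m :=
  borel_conj_pos hc (Subgroup.mem_subgroupOf.1 hb) (Subgroup.mem_subgroupOf.1 hx)

theorem B_conj_U_iff {b : ↥(G1 K m)} (hb : b ∈ Bw K m) (x : ↥(G1 K m)) :
    b * x * b⁻¹ ∈ Uw K m ↔ x ∈ Uw K m :=
  ⟨fun h => by simpa [mul_assoc] using B_conj_U hσ (inv_mem hb) h, B_conj_U hσ hb⟩

theorem U_le_B : Uw K m ≤ Bw K m := fun _ hx => pos_le_borel hc (Subgroup.mem_subgroupOf.1 hx)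

theorem H_le_B : Hw K m ≤ Bw K m := fun _ hx => diagonal_le_borel hc (Subgroup.mem_subgroupOf.1 hx)

theorem U_inf_V {x : ↥(G1 K m)} (h : x ∈ Uw K m) (h' : x ∈ Vw K m) : x = 1 :=
  Subtype.ext (ChevAut.pos_inf_neg hc (Subgroup.mem_subgroupOf.1 h) (Subgroup.mem_subgroupOf.1 h'))

theorem B_inf_V {x : ↥(G1 K m)} (h : x ∈ Bw K m) (h' : x ∈ Vw K m) : x = 1 :=
  Subtype.ext (borel_inf_neg hc (Subgroup.mem_subgroupOf.1 h) (Subgroup.mem_subgroupOf.1 h'))

theorem pg_mem_U (t : K) : pg hσ true t ∈ Uw K m :=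
  uGen_mono (fun _ _ h => h.1) (Subgroup.mem_inf.1 (pgv_pos_mem hσ t)).1

theorem qg_mem_U (x u : K) : qg hσ true x u ∈ Uw K m :=
  uGen_mono (fun _ _ h => h.1) (Subgroup.mem_inf.1 (qgv_pos_mem hσ x u)).1

theorem pg_ne_one : pg hσ true (1 : K) ≠ 1 := fun h =>
  one_ne_zero (pg_inj hσ (h.trans (pg_zero hσ true).symm))

theorem qg_ne_one : qg hσ true (1 : K) 0 ≠ 1 := fun h =>
  one_ne_zero (qg_inj hσ (h.trans (qg_zero hσ true).symm)).1

/-- a nontrivial element of `U` in the group generated by the two simple root elements -/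
theorem node_word (s : Bool) : ∃ x ∈ Uw K m, x ≠ 1 ∧ ∀ (g : GL chevF4.Idx K) (S : Subgroup (GL chevF4.Idx K)),
    g * X (sR s).1 1 * g⁻¹ ∈ S → g * X (sR s).2 1 * g⁻¹ ∈ S → g * (x : GL chevF4.Idx K) * g⁻¹ ∈ S := by
  cases s
  · refine ⟨_, pg_mem_U hσ 1, pg_ne_one hσ, fun g S h1 h2 => ?_⟩
    have := mul_mem h1 h2
    rw [coe_pg, one_pow]
    simpa [mul_assoc, sR, pR] using this
  · refine ⟨_, qg_mem_U hσ 0 1, fun h0 =>
      one_ne_zero (qg_inj hσ (h0.trans (qg_zero hσ true).symm)).2, fun g S h1 h2 => ?_⟩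
    have hsw := quad_swap hσ (show (f4a, f4b, f4ab, f4aab) ∈ quads by simp [quads]) (1 : K) 1
    have := mul_mem (inv_mem (mul_mem h2 h1)) (mul_mem h1 h2)
    have e : (qg hσ true (0 : K) 1 : GL chevF4.Idx K) =
        (X f4b (1 : K) * X f4a 1)⁻¹ * (X f4a 1 * X f4b 1) := by
      rw [coe_qg, hsw]
      simp only [qR, zero_pow (Nat.succ_ne_zero _), zero_pow (pow_ne_zero _ two_ne_zero), zero_add,
        one_pow, mul_one, X_zero' hσ (show f4b < 48 by decide), X_zero' hσ (show f4a < 48 by decide)]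
      group
    rw [e]
    simpa [mul_assoc, sR] using this

/-- a monomial element sends each pair of simple roots to one side -/
theorem monomial_shape {n : ↥(G1 K m)} (hn : n ∈ Nw K m) :
    ∃ (d : GL chevF4.Idx K) (L : List (Fin chevF4.rank)), d ∈ chevF4.diagonalSubgroup K ∧
      (n : GL chevF4.Idx K) = d * nProd chevF4 K L ∧
      (∀ r, r < 48 → rho (sigs chevF4 tb L r) = sigs chevF4 tb L (rho r)) ∧
      ∀ r, r < 48 → ∀ t, ∃ c : Kˣ, (n : GL chevF4.Idx K) * X r t * (n : GL chevF4.Idx K)⁻¹ =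
        X (sigs chevF4 tb L r) ((c : K) * t) := by
  obtain ⟨d, hd, L, e⟩ := monomial_cases hc (Subgroup.mem_subgroupOf.1 hn)
  have hconj : ∀ r, r < 48 → ∀ t, ∃ c : Kˣ, (n : GL chevF4.Idx K) * X r t * (n : GL chevF4.Idx K)⁻¹ =
      X (sigs chevF4 tb L r) ((c : K) * t) := by
    intro r hr t
    have hr' : r < chevF4.nroots := hr
    obtain ⟨c, hc'⟩ := diagonal_conj_elX hc hd (sigs_lt hc L hr')
    refine ⟨c, ?_⟩
    rw [e, show ∀ a b x : GL chevF4.Idx K, a * b * x * (a * b)⁻¹ = a * (b * x * b⁻¹) * a⁻¹ from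
      fun a b x => by group, nProd_conj hσ L hr, hc']
  refine ⟨d, L, hd, e, fun r hr => ?_, hconj⟩
  obtain ⟨c, h1⟩ := hconj r hr 1
  obtain ⟨c', h2⟩ := hconj (rho r) (rho_lt hr) 1
  have gn : (n : GL chevF4.Idx K) ∈ chevF4.group K := fixF_le_group (G1_le_fix hσ n.2)
  have hfix := (mem_fixF.1 (G1_le_fix hσ n.2)).2
  have gx : ∀ {r : ℕ}, r < 48 → ∀ t : K, X r t ∈ chevF4.group K := fun {r} hr t =>
    elX_mem_group hc (show r < chevF4.nroots from hr) t
  have h3 := congrArg (simg σ) h1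
  rw [simg_mul (mul_mem gn (gx hr 1)) (inv_mem gn), simg_mul gn (gx hr 1), simg_inv gn, hfix,
    simg_elX hσ (show r < chevF4.nroots from hr), simg_elX hσ (sigs_lt hc L (show r < chevF4.nroots from hr)),
    show phi m r (1 : K) = 1 by simp [phi], h2] at h3
  refine (elX_root_unique hc (sigs_lt hc L (show rho r < chevF4.nroots from rho_lt hr))
    (show rho (sigs chevF4 tb L r) < chevF4.nroots from rho_lt (sigs_lt hc L (show r < chevF4.nroots from hr)))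
    ?_ h3).symm
  simp

theorem mem_B_of_monomial {n : ↥(G1 K m)} (hn : n ∈ Nw K m)
    (h : ∀ x ∈ Uw K m, n * x * n⁻¹ ∈ Bw K m) : n ∈ Bw K m := by
  obtain ⟨d, L, hd, e, hrho, hconj⟩ := monomial_shape hσ hn
  show (n : GL chevF4.Idx K) ∈ chevF4.borelSubgroup K
  rw [e]
  refine mul_mem (diagonal_le_borel hc hd) (diagonal_le_borel hc (nProd_mem_of_pos hc L fun i => ?_))
  by_contra hneg
  rw [Nat.not_le] at hneg
  obtain ⟨-, s, hs⟩ := w0_facts i
  obtain ⟨h1, h2, e1, e2⟩ := sR_facts s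
  have hside : ∀ r, r < 48 → (sigs chevF4 tb L (rho r) < 24 ↔ sigs chevF4 tb L r < 24) := fun r hr => by
    rw [← hrho r hr]
    have := rho_pos (sigs_lt hc L (show r < chevF4.nroots from hr))
    constructor <;> intro h' <;> omega
  have hneg' : sigs chevF4 tb L (chevF4.simple i) < 24 := hneg
  have hum : ∀ r, r < 48 → sigs chevF4 tb L r < 24 → ∀ t,
      (n : GL chevF4.Idx K) * X r t * (n : GL chevF4.Idx K)⁻¹ ∈ Um chevF4 K := fun r hr h' t => by
    obtain ⟨c, hc'⟩ := hconj r hr t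
    rw [hc']
    exact elX_mem_uGen (sigs_lt hc L (show r < chevF4.nroots from hr)) (P := fun r => r < chevF4.nroots / 2) h' _
  have hh : sigs chevF4 tb L (sR s).1 < 24 ∧ sigs chevF4 tb L (sR s).2 < 24 := by
    have hs' : chevF4.simple i.val = (sR s).1 ∨ chevF4.simple i.val = (sR s).2 := by cases s <;> exact hs
    rcases hs' with g | g <;> rw [g] at hneg'
    · exact ⟨hneg', e1 ▸ (hside _ h1).2 hneg'⟩
    · exact ⟨e2 ▸ (hside _ h2).2 hneg', hneg'⟩
  obtain ⟨x, hx, hx1, hgen⟩ := node_word hσ s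
  exact hx1 ((conj_eq_one_iff (a := n)).1
    (B_inf_V hσ (h x hx) (hgen _ _ (hum _ h1 hh.1 1) (hum _ h2 hh.2 1))))

/-- the monomial element of the longest word -/
noncomputable def n0 : ↥(G1 K m) := ⟨nProd chevF4 K (altW false 8), nu_mem hσ false 8⟩

theorem n0_sq : n0 hσ * n0 hσ ∈ Hw K m := by
  show nProd chevF4 K (altW false 8) * nProd chevF4 K (altW false 8) ∈ chevF4.diagonalSubgroup K
  rw [← nProd_append]
  refine nProd_mem_of_pos hc _ fun i => ?_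
  rw [sigs_append, (w0_facts i).1]
  have hlt := neg_lt hc (simple_lt hc i.2)
  have := ChevAut.negSimple_lt hc i
  exact (w0_flip ⟨_, hlt⟩).2 this

theorem n0_conj {x : ↥(G1 K m)} :
    (n0 hσ * x * (n0 hσ)⁻¹ ∈ Vw K m ↔ x ∈ Uw K m) ∧
    (n0 hσ * x * (n0 hσ)⁻¹ ∈ Uw K m ↔ x ∈ Vw K m) := by
  have key1 : ∀ y, y ∈ Uw K m → n0 hσ * y * (n0 hσ)⁻¹ ∈ Vw K m := fun y hy =>
    conj_nProd_uGen _ (fun r hr (hp : 24 ≤ r) => by
      show _ < 24
      have := w0_flip ⟨r, hr⟩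
      simp only at this
      omega) hy
  have key2 : ∀ y, y ∈ Vw K m → n0 hσ * y * (n0 hσ)⁻¹ ∈ Uw K m := fun y hy =>
    conj_nProd_uGen _ (fun r hr (hp : r < 24) => (w0_flip ⟨r, hr⟩).2 hp) hy
  have hd : ∀ {P : ℕ → Prop} {y : GL chevF4.Idx K}, y ∈ uGen chevF4 K P →
      ((n0 hσ * n0 hσ : ↥(G1 K m)) : GL chevF4.Idx K)⁻¹ * y * (n0 hσ * n0 hσ : ↥(G1 K m)) ∈
        uGen chevF4 K P := fun hy => diag_conj_mem' hc _ (Subgroup.mem_subgroupOf.1 (n0_sq hσ)) hy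
  refine ⟨⟨fun h => ?_, key1 x⟩, ⟨fun h => ?_, key2 x⟩⟩
  · have := hd (Subgroup.mem_subgroupOf.1 (key2 _ h))
    simpa [Subgroup.mem_subgroupOf, mul_assoc] using this
  · have := hd (Subgroup.mem_subgroupOf.1 (key1 _ h))
    simpa [Subgroup.mem_subgroupOf, mul_assoc] using this

theorem H_conj {h : ↥(G1 K m)} (hh : h ∈ Hw K m) (x : ↥(G1 K m)) :
    (h * x * h⁻¹ ∈ Uw K m ↔ x ∈ Uw K m) ∧ (h * x * h⁻¹ ∈ Vw K m ↔ x ∈ Vw K m) := by
  have key : ∀ {P : ℕ → Prop} {y : GL chevF4.Idx K}, h.1 * y * h.1⁻¹ ∈ uGen chevF4 K P ↔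
      y ∈ uGen chevF4 K P := fun {P y} =>
    ⟨fun hy => by simpa [mul_assoc] using diag_conj_mem' hc P (Subgroup.mem_subgroupOf.1 hh) hy,
      diag_conj_mem hc P (Subgroup.mem_subgroupOf.1 hh)⟩
  exact ⟨key, key⟩

theorem monomial_flip {k : ↥(G1 K m)} (hk : k ∈ Nw K m)
    (h : ∀ x ∈ Uw K m, k * x * k⁻¹ ∈ Uw K m → x = 1) :
    ∃ d ∈ Hw K m, k = d * n0 hσ := by
  obtain ⟨d, L, hd, e, hrho, hconj⟩ := monomial_shape hσ hk
  have hneg : ∀ i : Fin chevF4.rank, sigs chevF4 tb L (chevF4.simple i) < 24 := by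
    intro i
    by_contra hpos
    rw [Nat.not_lt] at hpos
    obtain ⟨-, s, hs⟩ := w0_facts i
    obtain ⟨h1, h2, e1, e2⟩ := sR_facts s
    have hside : ∀ r, r < 48 → (24 ≤ sigs chevF4 tb L (rho r) ↔ 24 ≤ sigs chevF4 tb L r) := fun r hr => by
      rw [← hrho r hr]; exact rho_pos (sigs_lt hc L (show r < chevF4.nroots from hr))
    have hup : ∀ r, r < 48 → 24 ≤ sigs chevF4 tb L r → ∀ t,
        (k : GL chevF4.Idx K) * X r t * (k : GL chevF4.Idx K)⁻¹ ∈ Up chevF4 K := fun r hr h' t => by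
      obtain ⟨c, hc'⟩ := hconj r hr t
      rw [hc']
      exact elX_mem_uGen (sigs_lt hc L (show r < chevF4.nroots from hr)) (P := fun r => chevF4.nroots / 2 ≤ r) h' _
    have hh : 24 ≤ sigs chevF4 tb L (sR s).1 ∧ 24 ≤ sigs chevF4 tb L (sR s).2 := by
      have hs' : chevF4.simple i.val = (sR s).1 ∨ chevF4.simple i.val = (sR s).2 := by cases s <;> exact hs
      rcases hs' with g | g <;> rw [g] at hpos
      · exact ⟨hpos, e1 ▸ (hside _ h1).2 hpos⟩
      · exact ⟨e2 ▸ (hside _ h2).2 hpos, hpos⟩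
    obtain ⟨x, hx, hx1, hgen⟩ := node_word hσ s
    exact hx1 (h x hx (hgen _ _ (hup _ h1 hh.1 1) (hup _ h2 hh.2 1)))
  refine ⟨k * (n0 hσ)⁻¹, ?_, by group⟩
  show (k : GL chevF4.Idx K) * (nProd chevF4 K (altW false 8))⁻¹ ∈ chevF4.diagonalSubgroup K
  have hprod : nProd chevF4 K L * nProd chevF4 K (altW false 8) ∈ chevF4.diagonalSubgroup K := by
    rw [← nProd_append]
    refine nProd_mem_of_pos hc _ fun i => ?_
    have hlt := simple_lt hc i.2
    rw [sigs_append, (w0_facts i).1, sigs_neg hc L hlt, neg_eq hc (sigs_lt hc L hlt)]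
    have := hneg i
    show 24 ≤ 48 - _
    omega
  have hsq := Subgroup.mem_subgroupOf.1 (n0_sq hσ)
  rw [e, show d * nProd chevF4 K L * (nProd chevF4 K (altW false 8))⁻¹ =
    d * (nProd chevF4 K L * nProd chevF4 K (altW false 8)) *
      (nProd chevF4 K (altW false 8) * nProd chevF4 K (altW false 8))⁻¹ by group]
  exact mul_mem (mul_mem hd hprod) (inv_mem hsq)

end

end CfsgLib.ReeF4Out
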