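import Cfsg.Agent.Lib.ReeF4Out.Nodes
import Cfsg.Agent.Lib.TwistOut.Card

/-!
2F4(q): a standard automorphism is a torus element times a field automorphism.
-/

set_option autoImplicit false
set_option linter.unusedSectionVars false
set_option maxRecDepth 4000

namespace CfsgLib.ReeF4Out

open Cfsg.Lie CfsgLib.Chev CfsgLib.ReeF4
open CfsgLib.ChevAut (Up Um)
open CfsgLib.TwistOut (restrictHom restrictHom_apply glField)

variable {K : Type*} [Field K] [Fintype K] {m : ℕ} {σ : MulAut ↥(chevF4.group K)}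

section
variable (hσ : IsSigma m σ)
include hσ

theorem glField_X (ρ : RingAut K) {r : ℕ} (hr : r < 48) (t : K) :
    glField chevF4 K ρ (X r t) = X r (ρ t) := by
  have hr' : r < chevF4.nroots := hr
  refine Units.ext ?_
  rw [coe_elX hc K hr']
  refine Eq.trans ?_ (Chevalley.x_map_ringHom chevF4 ρ.toRingHom r t)
  rw [← coe_elX hc K hr']
  rfl

theorem glField_pg (ρ : RingAut K) (b : Bool) (t : K) :
    glField chevF4 K ρ (pg hσ b t) = (pg hσ b (ρ t) : GL chevF4.Idx K) := by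
  obtain ⟨h1, h2⟩ := pR_facts b
  rw [coe_pg, coe_pg, map_mul, glField_X hσ ρ h1, glField_X hσ ρ h2, map_pow]

theorem glField_qg (ρ : RingAut K) (b : Bool) (x u : K) :
    glField chevF4 K ρ (qg hσ b x u) = (qg hσ b (ρ x) (ρ u) : GL chevF4.Idx K) := by
  obtain ⟨h1, h2, h3, h4⟩ := qR_facts b
  rw [coe_qg, coe_qg, map_mul, map_mul, map_mul, glField_X hσ ρ h1, glField_X hσ ρ h2,
    glField_X hσ ρ h3, glField_X hσ ρ h4]
  simp only [map_add, map_pow]

theorem gens_le {S : Subgroup (GL chevF4.Idx K)} (h1 : ∀ b t, (pg hσ b t : GL chevF4.Idx K) ∈ S)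
    (h2 : ∀ b x u, (qg hσ b x u : GL chevF4.Idx K) ∈ S) : G1 K m ≤ S := by
  refine (Subgroup.closure_le _).2 ?_
  rintro g ⟨w, hw, hg⟩
  have hlt : ∀ r ∈ [f4p1, f4p4, f4m1, f4m4, f4a, f4b, f4ab, f4aab, f4ma, f4mb, f4mab, f4maab],
      r < chevF4.nroots := by decide +kernel
  rcases hw with ⟨t, rfl | rfl⟩ | ⟨t, u, rfl | rfl⟩
  · have e : g = (pg hσ true t : GL chevF4.Idx K) := by
      ext1; rw [hg, coe_pg, Units.val_mul]
      simp [pR, coe_elX hc K (hlt f4p1 (by simp)), coe_elX hc K (hlt f4p4 (by simp)),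
        ChevalleyDatum.wordMat, f4PairWord]
    rw [e]; exact h1 _ _
  · have e : g = (pg hσ false t : GL chevF4.Idx K) := by
      ext1; rw [hg, coe_pg, Units.val_mul]
      simp [pR, coe_elX hc K (hlt f4m1 (by simp)), coe_elX hc K (hlt f4m4 (by simp)),
        ChevalleyDatum.wordMat, f4PairWord]
    rw [e]; exact h1 _ _
  · have e : g = (qg hσ true t u : GL chevF4.Idx K) := by
      show g = quadNF m f4a f4b f4ab f4aab t u
      rw [← quad_word_eq hσ (show (f4a, f4b, f4ab, f4aab) ∈ quads by simp [quads]) t u]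
      ext1
      rw [hg, Units.val_mul, Units.val_mul, Units.val_mul, coe_elX hc K (hlt _ (by simp)),
        coe_elX hc K (hlt _ (by simp)), coe_elX hc K (hlt _ (by simp)), coe_elX hc K (hlt _ (by simp))]
      simp [ChevalleyDatum.wordMat, b2ClassWord, mul_assoc]
    rw [e]; exact h2 _ _ _
  · have e : g = (qg hσ false t u : GL chevF4.Idx K) := by
      show g = quadNF m f4ma f4mb f4mab f4maab t u
      rw [← quad_word_eq hσ (show (f4ma, f4mb, f4mab, f4maab) ∈ quads by simp [quads]) t u]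
      ext1
      rw [hg, Units.val_mul, Units.val_mul, Units.val_mul, coe_elX hc K (hlt _ (by simp)),
        coe_elX hc K (hlt _ (by simp)), coe_elX hc K (hlt _ (by simp)), coe_elX hc K (hlt _ (by simp))]
      simp [ChevalleyDatum.wordMat, b2ClassWord, mul_assoc]
    rw [e]; exact h2 _ _ _

/-- the field automorphisms -/
noncomputable def fieldAut : RingAut K →* MulAut ↥(G1 K m) :=
  restrictHom (G1 K m) (glField chevF4 K) fun ρ g hg => by
    refine (gens_le hσ (S := (G1 K m).comap (glField chevF4 K ρ).toMonoidHom) ?_ ?_) hg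
    · intro b t
      show glField chevF4 K ρ _ ∈ G1 K m
      rw [glField_pg]; exact (pg hσ b (ρ t)).2
    · intro b x u
      show glField chevF4 K ρ _ ∈ G1 K m
      rw [glField_qg]; exact (qg hσ b (ρ x) (ρ u)).2

theorem fieldAut_pg (ρ : RingAut K) (b : Bool) (t : K) :
    fieldAut hσ ρ (pg hσ b t) = pg hσ b (ρ t) := Subtype.ext (glField_pg hσ ρ b t)

theorem fieldAut_qg (ρ : RingAut K) (b : Bool) (x u : K) :
    fieldAut hσ ρ (qg hσ b x u) = qg hσ b (ρ x) (ρ u) := Subtype.ext (glField_qg hσ ρ b x u)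

theorem fieldAut_std (ρ : RingAut K) : Std (fieldAut hσ ρ) := by
  have key : ∀ (ρ : RingAut K) {P : ℕ → Prop} {g : GL chevF4.Idx K}, g ∈ uGen chevF4 K P →
      glField chevF4 K ρ g ∈ uGen chevF4 K P := fun ρ {P g} hg =>
    (uGen_le_iff.2 fun r hr hp t => by
      show glField chevF4 K ρ (X r t) ∈ uGen chevF4 K P
      rw [glField_X hσ ρ hr]; exact elX_mem_uGen hr hp _ :
        uGen chevF4 K P ≤ (uGen chevF4 K P).comap (glField chevF4 K ρ).toMonoidHom) hg
  have h2 : ∀ {P : ℕ → Prop} (x : ↥(G1 K m)),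
      fieldAut hσ ρ x ∈ (uGen chevF4 K P).subgroupOf (G1 K m) ↔ x ∈ (uGen chevF4 K P).subgroupOf (G1 K m) := by
    intro P x
    refine ⟨fun h => ?_, key ρ⟩
    have h' : fieldAut hσ ρ⁻¹ (fieldAut hσ ρ x) ∈ (uGen chevF4 K P).subgroupOf (G1 K m) := key ρ⁻¹ h
    rwa [← MulAut.mul_apply, ← map_mul, inv_mul_cancel, map_one] at h'
  exact ⟨fun x => h2 x, fun x => h2 x⟩

theorem hA_mem_H (t : Kˣ) : hA hσ t ∈ Hw K m := by
  show (hA hσ t : GL chevF4.Idx K) ∈ chevF4.diagonalSubgroup K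
  rw [coe_hA, map_mul]
  exact mul_mem (torus_corChar_mem hc _) (torus_corChar_mem hc _)

theorem hC_mem_H (u : Kˣ) : hC hσ u ∈ Hw K m := by
  refine mul_mem (hA_mem_H hσ _) ?_
  show nJ K true * (hA hσ u : GL chevF4.Idx K) * (nJ K true)⁻¹ ∈ chevF4.diagonalSubgroup K
  exact monomial_conj_diagonal hc (nProd_mem_monomial hc _) (Subgroup.mem_subgroupOf.1 (hA_mem_H hσ u))

theorem conj_std {h : ↥(G1 K m)} (hh : h ∈ Hw K m) : Std (MulAut.conj h) :=
  ⟨fun x => (H_conj hσ hh x).1, fun x => (H_conj hσ hh x).2⟩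

theorem NP_mul_inv (a : Kˣ) : (hA hσ a)⁻¹ = NP hσ 1 * NP hσ (a : K) := by
  rw [hA, mul_inv_rev, NP_inv, NP_inv]

theorem pg_neg_mem_V (t : K) : pg hσ false t ∈ Vw K m := by
  have h := conj_nProd_uGen (K := K) (jl false) (P := JRoot false) (Q := fun r => r < chevF4.nroots / 2)
    (fun _ _ h => h.2) (Subgroup.mem_inf.1 (pgv_pos_mem hσ t)).1
  have e : (pg hσ false t : GL chevF4.Idx K) = nJ K false * pgv m true t * (nJ K false)⁻¹ :=
    congrArg Subtype.val (ng_conj_pg hσ true t).symm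
  exact Subgroup.mem_subgroupOf.2 (e ▸ h)

theorem opp_eq_zero {d w w' : K} (hw : w ≠ 0) (hw' : w' ≠ 0)
    (h : pg hσ true d * pg hσ false w * pg hσ true d = pg hσ false w') : d = 0 := by
  have hM : ∀ u : Kˣ, pg hσ false (u : K) = pg hσ true (u : K)⁻¹ * NP hσ (u : K)⁻¹ * pg hσ true (u : K)⁻¹ := by
    intro u
    rw [NP, inv_inv, show ∀ P M : ↥(G1 K m), P * (P * M * P) * P = (P * P) * M * (P * P) from
      fun P M => by group, pg_self hσ, one_mul, mul_one]
  have e1 := hM (Units.mk0 w hw)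
  have e2 := hM (Units.mk0 w' hw')
  simp only [Units.val_mk0] at e1 e2
  set N := NP hσ w⁻¹
  set N' := NP hσ w'⁻¹
  set e := d + w⁻¹ + w'⁻¹ with he
  have h1 : pg hσ true e * N * pg hσ true e = N' := by
    rw [e1, e2] at h
    have h' : pg hσ true (d + w⁻¹) * N * pg hσ true (w⁻¹ + d) = pg hσ true w'⁻¹ * N' * pg hσ true w'⁻¹ := by
      rw [← h, ← pg_mul hσ, ← pg_mul hσ]; group
    have h'' := congrArg (fun g => pg hσ true w'⁻¹ * g * pg hσ true w'⁻¹) h'
    rw [show ∀ P M : ↥(G1 K m), P * (P * M * P) * P = (P * P) * M * (P * P) from fun P M => by group,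
      pg_self hσ, one_mul, mul_one, show ∀ P A M B : ↥(G1 K m), P * (A * M * B) * P = (P * A) * M * (B * P) from
      fun P A M B => by group, pg_mul hσ, pg_mul hσ] at h''
    rw [← h'', he]
    ring_nf
  have hc' := NP_conj hσ (Units.mk0 w⁻¹ (inv_ne_zero hw)) e
  simp only [Units.val_mk0] at hc'
  rw [NP_inv] at hc'
  have h2 : pg hσ true e * (N * pg hσ true e * N) = N' * N := by rw [← h1]; group
  rw [hc'] at h2
  have hd : N' * N ∈ Hw K m := by
    have : N' * N = hA hσ (Units.mk0 w'⁻¹ (inv_ne_zero hw')) * (hA hσ (Units.mk0 w⁻¹ (inv_ne_zero hw)))⁻¹ := by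
      rw [NP_mul_inv, hA, Units.val_mk0, Units.val_mk0, mul_assoc, ← mul_assoc (NP hσ 1), NP_sq, one_mul]
    rw [this]; exact mul_mem (hA_mem_H hσ _) (inv_mem (hA_mem_H hσ _))
  have hY : pg hσ false (e / w⁻¹ ^ 2) ∈ Bw K m := by
    rw [show pg hσ false (e / w⁻¹ ^ 2) = (pg hσ true e)⁻¹ * (N' * N) by rw [← h2, inv_mul_cancel_left]]
    exact mul_mem (inv_mem (U_le_B hσ (pg_mem_U hσ e))) (H_le_B hσ hd)
  have he0 : e = 0 := by
    have := pg_inj hσ ((B_inf_V hσ hY (pg_neg_mem_V hσ _)).trans (pg_zero hσ false).symm)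
    simpa [hw] using this
  rw [he0, pg_zero, one_mul, mul_one] at h1
  have h3 := NP_conj hσ (Units.mk0 w⁻¹ (inv_ne_zero hw)) 1
  have h4 := NP_conj hσ (Units.mk0 w'⁻¹ (inv_ne_zero hw')) 1
  simp only [Units.val_mk0] at h3 h4
  rw [show NP hσ w⁻¹ = N from rfl, h1] at h3
  have h5 := pg_inj hσ (h3.symm.trans h4)
  simp only [one_div, inv_pow, inv_inv] at h5
  have hww : w = w' := by
    have : (w - w') ^ 2 = 0 := by linear_combination h5 + (w' ^ 2 - w * w') * hσ.char2
    exact sub_eq_zero.1 ((pow_eq_zero_iff two_ne_zero).1 this)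
  rw [he, hww, add_assoc, add_self hσ, add_zero] at he0
  exact he0

variable {θ : MulAut ↥(G1 K m)}

theorem pair_neg {α β : K → K} (hα : ∀ t, θ (pg hσ true t) = pg hσ true (α t))
    (hβ : ∀ t, θ (pg hσ false t) = pg hσ false (β t)) {t : K} (ht : t ≠ 0) :
    β t⁻¹ = (α t)⁻¹ ∧ θ (NP hσ t) = NP hσ (α t) := by
  have hne : ∀ {x : K}, x ≠ 0 → α x ≠ 0 ∧ β x ≠ 0 := fun {x} hx => by
    constructor <;> intro e
    · have := hα x
      rw [e, pg_zero, ← map_one θ] at this
      exact hx (pg_inj hσ ((θ.injective this).trans (pg_zero hσ true).symm))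
    · have := hβ x
      rw [e, pg_zero, ← map_one θ] at this
      exact hx (pg_inj hσ ((θ.injective this).trans (pg_zero hσ false).symm))
  set a := α t
  set c := β t⁻¹
  have hc0 : c ≠ 0 := (hne (inv_ne_zero ht)).2
  have hg : θ (NP hσ t) = pg hσ true a * pg hσ false c * pg hσ true a := by
    rw [NP, map_mul, map_mul, hα, hβ]
  set d := a + c⁻¹
  have hgd : θ (NP hσ t) = pg hσ true d * NP hσ c⁻¹ * pg hσ true d := by
    rw [hg, NP, inv_inv]
    rw [show ∀ P Q M : ↥(G1 K m), P * (Q * M * Q) * P = (P * Q) * M * (Q * P) from fun P Q M => by group,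
      pg_mul hσ, pg_mul hσ, add_comm c⁻¹]
    simp only [d, add_assoc, add_self hσ, add_zero]
  have h1 := congrArg θ (NP_conj hσ (Units.mk0 t ht) 1)
  simp only [Units.val_mk0] at h1
  rw [NP_inv, map_mul, map_mul, hα, hβ, hgd] at h1
  have h2 := NP_conj hσ (Units.mk0 c⁻¹ (inv_ne_zero hc0)) (α 1)
  simp only [Units.val_mk0] at h2
  rw [NP_inv] at h2
  have hd : d = 0 := by
    refine opp_eq_zero hσ (w := α 1 / c⁻¹ ^ 2) (w' := β (1 / t ^ 2)) ?_ (hne (by simp [ht])).2 ?_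
    · exact div_ne_zero (hne one_ne_zero).1 (pow_ne_zero _ (inv_ne_zero hc0))
    · rw [← h1, ← h2]
      conv_rhs =>
        rw [show ∀ P N x : ↥(G1 K m), P * N * P * x * (P * N * P) = P * N * (P * x * P) * N * P from
          fun P N x => by group, pg_mul hσ, pg_mul hσ]
      rw [show d + α 1 + d = α 1 by linear_combination d * hσ.char2]
      group
  have hca : c = a⁻¹ := by
    have : c⁻¹ = a := by
      simp only [d] at hd
      linear_combination hd - a * hσ.char2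
    rw [← this, inv_inv]
  exact ⟨hca, by rw [hg, hca]; rfl⟩

/-- the action on the pair -/
theorem pair_shape {α β : K → K} (hα : ∀ t, θ (pg hσ true t) = pg hσ true (α t))
    (hβ : ∀ t, θ (pg hσ false t) = pg hσ false (β t)) :
    ∃ (a : Kˣ) (ρ : RingAut K), ∀ t, α t = (a : K) * ρ t := by
  have hne : ∀ {x : K}, x ≠ 0 → α x ≠ 0 := fun {x} hx e => by
    have := hα x
    rw [e, pg_zero, ← map_one θ] at this
    exact hx (pg_inj hσ ((θ.injective this).trans (pg_zero hσ true).symm))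
  have hadd : ∀ s t, α (s + t) = α s + α t := fun s t => pg_inj hσ (by
    rw [← hα, ← pg_mul hσ, map_mul, hα, hα, pg_mul hσ])
  have h0 : α 0 = 0 := by simpa using hadd 0 0
  have a1 := hne one_ne_zero
  have hsq : ∀ t x, α (t ^ 2 * x) = (α t / α 1) ^ 2 * α x := by
    intro t x
    by_cases ht : t = 0
    · simp [ht, h0]
    have hH : θ (hA hσ (Units.mk0 t ht)) =
        hA hσ (Units.mk0 _ (hne ht)) * (hA hσ (Units.mk0 _ a1))⁻¹ := by
      rw [NP_mul_inv, hA, hA, Units.val_mk0, Units.val_mk0, Units.val_mk0, map_mul,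
        (pair_neg hσ hα hβ ht).2, (pair_neg hσ hα hβ one_ne_zero).2, mul_assoc,
        ← mul_assoc (NP hσ 1), NP_sq, one_mul]
    have h1 := congrArg θ (hA_pg hσ (Units.mk0 t ht) true x)
    rw [map_mul, map_mul, map_inv, hH, hα, hα] at h1
    have h2 : (hA hσ (Units.mk0 _ a1))⁻¹ * pg hσ true (α x) * hA hσ (Units.mk0 _ a1) =
        pg hσ true ((α 1)⁻¹ ^ 2 * α x) := by
      have e : pg hσ true (α x) = hA hσ (Units.mk0 _ a1) * pg hσ true ((α 1)⁻¹ ^ 2 * α x) *
          (hA hσ (Units.mk0 _ a1))⁻¹ := by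
        rw [hA_pg]; congr 1
        simp [zpow_ofNat, ← mul_assoc, inv_pow, mul_inv_cancel₀ (pow_ne_zero 2 a1)]
      rw [e]; group
    rw [show ∀ A B Z : ↥(G1 K m), A * B⁻¹ * Z * (A * B⁻¹)⁻¹ = A * (B⁻¹ * Z * B) * A⁻¹ from
      fun A B Z => by group, h2, hA_pg] at h1
    have h3 := pg_inj hσ h1
    simp only [cond_true, zpow_ofNat, Units.val_mk0] at h3
    rw [← h3, div_eq_mul_inv, mul_pow, mul_assoc]
  let g : K → K := fun t => α t / α 1
  have g1 : g 1 = 1 := div_self a1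
  have gsq : ∀ t, g (t ^ 2) = g t ^ 2 := fun t => by
    have := hsq t 1
    rw [mul_one] at this
    simp only [g, this, mul_div_assoc, div_self a1, mul_one]
  let f : K →+* K :=
    { toFun := g
      map_one' := g1
      map_zero' := by simp [g, h0]
      map_add' := fun x y => by simp only [g, hadd, add_div]
      map_mul' := fun x y => by
        by_cases hx : x = 0
        · subst hx; simp [g, h0]
        obtain ⟨r, hr⟩ := sq_surj hσ (Units.mk0 x hx)
        rw [Units.val_mk0] at hr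
        subst hr
        show g _ = g _ * g y
        rw [gsq]
        simp only [g, hsq, mul_div_assoc] }
  exact ⟨Units.mk0 _ a1, RingEquiv.ofBijective f (Finite.injective_iff_bijective.1 f.injective),
    fun t => show α t = α 1 * (α t / α 1) by rw [mul_div_cancel₀ _ a1]⟩

/-- the action on a quadruple when the pair is fixed -/
theorem suzuki_shape (hm : 1 ≤ m) (b : Bool) (hA' : ∀ t, θ (hA hσ t) = hA hσ t)
    (hq : ∀ x u, ∃ x' u', θ (qg hσ b x u) = qg hσ b x' u') :
    ∃ c : Kˣ, (∀ x u, ∃ u', θ (qg hσ b x u) = qg hσ b ((c : K) * x) u') ∧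
      (∀ u, θ (qg hσ b 0 u) = qg hσ b 0 ((c : K) ^ (2 ^ m + 1) * u)) ∧
      (c = 1 → ∀ x u, θ (qg hσ b x u) = qg hσ b x u) := by
  choose A Γ hΓ using fun x => hq x 0
  have hscale : ∀ (l : Kˣ) x, A ((l : K) * x) = (l : K) * A x ∧
      Γ ((l : K) * x) = (l : K) ^ (2 ^ m + 1) * Γ x := by
    intro l x
    obtain ⟨t, ht⟩ : ∃ t : Kˣ, cond b ((t : K)⁻¹) (t : K) = (l : K) := by
      cases b
      · exact ⟨l, rfl⟩
      · exact ⟨l⁻¹, by simp⟩
    have h := congrArg θ (hA_qg hσ t b x 0)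
    rw [map_mul, map_mul, map_inv, hA', hΓ, hA_qg, ht, mul_zero, hΓ] at h
    obtain ⟨e1, e2⟩ := qg_inj hσ h
    exact ⟨e1.symm, e2.symm⟩
  have hA0 : A 0 = 0 ∧ Γ 0 = 0 := by
    have h := hΓ 0
    rw [qg_zero, map_one, ← qg_zero hσ b] at h
    obtain ⟨e1, e2⟩ := qg_inj hσ h
    exact ⟨e1.symm, e2.symm⟩
  have hlin : ∀ x, A x = x * A 1 ∧ Γ x = x ^ (2 ^ m + 1) * Γ 1 := by
    intro x
    by_cases hx : x = 0
    · simp [hx, hA0, zero_pow]
    have := hscale (Units.mk0 x hx) 1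
    simpa using this
  have hsqr : ∀ x, θ (qg hσ b 0 (x ^ (2 ^ m + 1))) = qg hσ b 0 ((A 1) ^ (2 ^ m + 1) * x ^ (2 ^ m + 1)) := by
    intro x
    rw [← qg_sq hσ b x 0, map_mul, hΓ, qg_sq, (hlin x).1, mul_pow, mul_comm]
  have hcentre : ∀ u, θ (qg hσ b 0 u) = qg hσ b 0 ((A 1) ^ (2 ^ m + 1) * u) := by
    intro u
    by_cases hu : u = 0
    · rw [hu, mul_zero, qg_zero, map_one]
    obtain ⟨x, hx⟩ := norm_surj hσ (Units.mk0 u hu)
    have hx' : (x : K) ^ (2 ^ m + 1) = u := by simpa using congrArg Units.val hx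
    rw [← hx']; exact hsqr _
  have hc0 : A 1 ≠ 0 := by
    intro e
    have h := hcentre 1
    rw [e, zero_pow (Nat.succ_ne_zero _), zero_mul, qg_zero, ← map_one θ] at h
    exact one_ne_zero (qg_inj hσ ((θ.injective h).trans (qg_zero hσ b).symm)).2
  have hsplit : ∀ x u, qg hσ b x u = qg hσ b x 0 * qg hσ b 0 u := fun x u => by rw [qg_mul]; simp
  have hall : ∀ x u, θ (qg hσ b x u) = qg hσ b (A x) (Γ x + (A 1) ^ (2 ^ m + 1) * u) := by
    intro x u
    rw [hsplit, map_mul, hΓ, hcentre, qg_mul, add_zero, mul_zero, add_zero]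
  refine ⟨Units.mk0 _ hc0, fun x u => ⟨_, by rw [hall, (hlin x).1, mul_comm x]; rfl⟩, hcentre, fun hc1 x u => ?_⟩
  have hA1 : A 1 = 1 := by simpa using congrArg Units.val hc1
  have hg : Γ 1 = 0 := by
    obtain ⟨z, hz⟩ := exists_not_prime hσ hm
    have h := congrArg θ (qg_mul hσ b z 0 1 0)
    rw [map_mul, hall, hall, hall, qg_mul] at h
    have h2 := (qg_inj hσ h).2
    simp only [(hlin z).1, (hlin z).2, (hlin (z + 1)).2, hA1, mul_one, mul_zero, add_zero, one_pow, zero_add,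
      one_mul, pow_succ, pow_theta_add hσ] at h2
    have : (z ^ 2 ^ m + z) * Γ 1 = 0 := by linear_combination -h2
    refine (mul_eq_zero.1 this).resolve_left fun e => hz ?_
    linear_combination e - z * hσ.char2
  rw [hall, (hlin x).1, (hlin x).2, hA1, hg]
  simp

end

section
variable {hσ : IsSigma m σ} {P : Cfsg.BNPair ↥(G1 K m)} (hP : HasBN hσ P)
include hP

/-- a standard automorphism is a torus element times a field automorphism -/
theorem std_shape (hm : 1 ≤ m) {θ : MulAut ↥(G1 K m)} (hθ : Std θ) :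
    ∃ h ∈ Hw K m, ∃ ρ : RingAut K, MulAut.conj h * θ = fieldAut hσ ρ := by
  choose α hα using fun b => (node_maps hP hθ b).1
  obtain ⟨a, ρ, hρ⟩ := pair_shape hσ (hα true) (hα false)
  obtain ⟨s, hs⟩ := sq_surj hσ a⁻¹
  set θ1 := fieldAut hσ ρ⁻¹ * (MulAut.conj (hA hσ s) * θ) with hθ1
  have hstd1 : Std θ1 :=
    (fieldAut_std hσ ρ⁻¹).mul ((conj_std hσ (hA_mem_H hσ s)).mul hθ)
  have hp1 : ∀ t, θ1 (pg hσ true t) = pg hσ true t := by
    intro t
    show fieldAut hσ ρ⁻¹ (hA hσ s * θ (pg hσ true t) * (hA hσ s)⁻¹) = _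
    rw [hα, hA_pg, fieldAut_pg, cond_true, zpow_ofNat, hs, hρ, ← mul_assoc, Units.inv_mul, one_mul]
    exact congrArg (pg hσ true) (ρ.symm_apply_apply t)
  choose β hβ using (node_maps hP hstd1 false).1
  have hn1 : ∀ t, θ1 (pg hσ false t) = pg hσ false t := by
    intro t
    by_cases ht : t = 0
    · rw [ht, pg_zero, map_one]
    have := (pair_neg hσ (α := id) hp1 hβ (inv_ne_zero ht)).1
    rw [id, inv_inv] at this
    rw [hβ, this]
  have hA1 : ∀ t, θ1 (hA hσ t) = hA hσ t := fun t => by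
    simp only [hA, NP, map_mul, hp1, hn1]
  obtain ⟨c, hc1, -, -⟩ := suzuki_shape hσ hm true hA1 ((node_maps hP hstd1 true).2)
  obtain ⟨u, hu⟩ := quot_surj hσ c⁻¹
  set θ2 := MulAut.conj (hC hσ u) * θ1 with hθ2
  have hstd2 : Std θ2 := (conj_std hσ (hC_mem_H hσ u)).mul hstd1
  have hp2 : ∀ b t, θ2 (pg hσ b t) = pg hσ b t := fun b t => by
    show hC hσ u * θ1 (pg hσ b t) * (hC hσ u)⁻¹ = _
    cases b
    · rw [hn1, hC_pg]
    · rw [hp1, hC_pg]
  have hA2 : ∀ t, θ2 (hA hσ t) = hA hσ t := fun t => by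
    simp only [hA, NP, map_mul, hp2]
  have hq2 : ∀ x v, ∃ v', θ2 (qg hσ true x v) = qg hσ true x v' := fun x v => by
    obtain ⟨v', e⟩ := hc1 x v
    refine ⟨((u : K) / (u : K) ^ 2 ^ m) ^ (2 ^ m + 1) * v', ?_⟩
    show hC hσ u * θ1 (qg hσ true x v) * (hC hσ u)⁻¹ = _
    rw [e, hC_qg, hu, ← mul_assoc, Units.inv_mul, one_mul]
  obtain ⟨c2, h21, -, h23⟩ := suzuki_shape hσ hm true hA2 (fun x v => ⟨x, hq2 x v⟩)
  have hc2 : c2 = 1 := by
    obtain ⟨v, e⟩ := h21 1 0
    obtain ⟨v', e'⟩ := hq2 1 0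
    rw [e, mul_one] at e'
    exact Units.ext (qg_inj hσ e').1
  have hqp := h23 hc2
  obtain ⟨c3, -, h32, h33⟩ := suzuki_shape hσ hm false hA2 ((node_maps hP hstd2 false).2)
  have hc3 : c3 = 1 := by
    set d := (c3 : K) ^ (2 ^ m + 1) with hd
    suffices d + 1 = 0 by
      refine Units.ext (norm_one hσ (u := (c3 : K)) ?_)
      rw [← hd]
      linear_combination this - hσ.char2
    by_contra hne
    obtain ⟨l, hl⟩ := norm_surj hσ (Units.mk0 _ hne)⁻¹
    have hl' : (l : K) ^ (2 ^ m + 1) * (d + 1) = 1 := by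
      have := congrArg Units.val hl
      rw [Units.val_pow_eq_pow_val] at this
      rw [this, Units.val_inv_eq_inv_val, Units.val_mk0, inv_mul_cancel₀ hne]
    set A := qg hσ true (1 : K) 0
    set C := qg hσ true (1 : K) 1
    set M := qg hσ false (0 : K) 1
    set M' := qg hσ false (0 : K) d
    have hn : ng hσ true = A * M * C := ng_true_eq hσ
    have hθn : θ2 (ng hσ true) = A * M' * C := by
      rw [hn, map_mul, map_mul, hqp, hqp, h32, mul_one]
    have mX : ∀ x v, qg hσ true x v ∈ Xs σ m true := fun x v => qgv_pos_mem hσ x v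
    have hk : ∀ z ∈ Xs σ m true, M⁻¹ * M' * z * (M⁻¹ * M')⁻¹ ∈ Xs σ m true := by
      intro z hz
      have hz' : C⁻¹ * z * C ∈ Xs σ m true := mul_mem (mul_mem (inv_mem (mX _ _)) hz) (mX _ _)
      obtain ⟨x, v, hxv⟩ := exists_qg hσ (Subgroup.mem_subgroupOf.1 hz')
      have h1 := congrArg θ2 (ng_conj_qg hσ true x v)
      obtain ⟨x', v', e⟩ := (node_maps hP hstd2 false).2 x v
      rw [map_mul, map_mul, map_inv, hθn, hqp, show (!true) = false from rfl, e, ← hxv,
        ← (show ng hσ true * qg hσ true x' v' * (ng hσ true)⁻¹ = qg hσ false x' v' from ng_conj_qg hσ true x' v'),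
        hn] at h1
      have h2 : M⁻¹ * M' * z * (M⁻¹ * M')⁻¹ = C * qg hσ true x' v' * C⁻¹ := by
        calc M⁻¹ * M' * z * (M⁻¹ * M')⁻¹
            = M⁻¹ * (A⁻¹ * (A * M' * C * (C⁻¹ * z * C) * (A * M' * C)⁻¹) * A) * M := by group
          _ = _ := by rw [h1]; group
      rw [h2]
      exact mul_mem (mul_mem (mX _ _) (mX _ _)) (inv_mem (mX _ _))
    have hMM : M⁻¹ * M' = qg hσ false 0 (d + 1) := by
      rw [inv_mul_eq_iff_eq_mul, qg_mul]
      simp only [zero_add, add_zero, mul_zero]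
      rw [show 1 + (d + 1) = d by linear_combination hσ.char2]
    have hh : ∀ t : Kˣ, ∀ z ∈ Xs σ m true, hA hσ t * z * (hA hσ t)⁻¹ ∈ Xs σ m true := fun t z hz => by
      obtain ⟨x, v, rfl⟩ := exists_qg hσ (Subgroup.mem_subgroupOf.1 hz)
      rw [hA_qg]; exact mX _ _
    have hMz : ∀ z ∈ Xs σ m true, M * z * M⁻¹ ∈ Xs σ m true := by
      intro z hz
      have e : hA hσ l * (M⁻¹ * M') * (hA hσ l)⁻¹ = M := by
        rw [hMM, hA_qg]
        simp only [cond_false, mul_zero, hl']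
        rfl
      have hz' : (hA hσ l)⁻¹ * z * hA hσ l ∈ Xs σ m true := by
        have := hh l⁻¹ z hz
        obtain ⟨x, v, rfl⟩ := exists_qg hσ (Subgroup.mem_subgroupOf.1 hz)
        have e : hA hσ l * qg hσ true ((l : K) * x) ((l : K) ^ (2 ^ m + 1) * v) * (hA hσ l)⁻¹ = qg hσ true x v := by
          rw [hA_qg]; simp only [cond_true, ← mul_assoc, ← mul_pow, Units.inv_mul', inv_mul_cancel₀ l.ne_zero,
            one_pow, one_mul]
        rw [← e]
        simp only [mul_assoc, inv_mul_cancel_left, inv_mul_cancel, mul_one]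
        exact mX _ _
      have := hh l _ (hk _ hz')
      rw [← e]
      simpa [mul_assoc] using this
    have hN : ∀ z ∈ Xs σ m true, ng hσ true * z * (ng hσ true)⁻¹ ∈ Xs σ m true := by
      intro z hz
      rw [hn, show A * M * C * z * (A * M * C)⁻¹ = A * (M * (C * z * C⁻¹) * M⁻¹) * A⁻¹ by group]
      exact mul_mem (mul_mem (mX _ _) (hMz _ (mul_mem (mul_mem (mX _ _) hz) (inv_mem (mX _ _))))) (inv_mem (mX _ _))
    exact qg_ne_one hσ ((conj_eq_one_iff (a := ng hσ true)).1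
      (U_inf_V hσ (Xs_le_U hσ true (hN _ (mX 1 0))) (ng_conj_Xs hσ (mX 1 0))))
  have hqn := h33 hc3
  have hid : θ2 = 1 := by
    let E : Subgroup (GL chevF4.Idx K) :=
      (MonoidHom.eqLocus θ2.toMonoidHom (MonoidHom.id ↥(G1 K m))).map (G1 K m).subtype
    have hle : G1 K m ≤ E := gens_le hσ (fun b t => ⟨pg hσ b t, hp2 b t, rfl⟩) fun b x v => by
      cases b
      exacts [⟨qg hσ false x v, hqn x v, rfl⟩, ⟨qg hσ true x v, hqp x v, rfl⟩]
    refine MulEquiv.ext fun g => ?_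
    obtain ⟨g', hg', e⟩ := hle g.2
    rw [← show g' = g from Subtype.ext e]
    exact hg'
  -- unwind: the torus elements move past the field automorphism
  have hfc : ∀ (ψ : RingAut K) (x : ↥(G1 K m)),
      fieldAut hσ ψ * MulAut.conj x = MulAut.conj (fieldAut hσ ψ x) * fieldAut hσ ψ := fun ψ x => by
    refine MulEquiv.ext fun y => ?_
    simp [map_mul, map_inv]
  refine ⟨fieldAut hσ ρ (hC hσ u) * hA hσ s, ?_, ρ, ?_⟩
  · refine mul_mem ?_ (hA_mem_H hσ s)
    rw [show hC hσ u = hA hσ (u ^ 2 ^ m) * hB hσ u from rfl]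
    have key : ∀ x ∈ Hw K m, fieldAut hσ ρ x ∈ Hw K m := by
      intro x hx
      show glField chevF4 K ρ (x : GL chevF4.Idx K) ∈ chevF4.diagonalSubgroup K
      obtain ⟨χ, e⟩ := (mem_diagonal hc).1 (Subgroup.mem_subgroupOf.1 hx)
      refine (mem_diagonal hc).2 ⟨fun i => Units.map (ρ : K ≃+* K).toRingHom.toMonoidHom (χ i), ?_⟩
      rw [← e]
      refine Units.ext ?_
      ext i j
      show _ = ρ _
      rw [coe_torus, coe_torus]
      by_cases hij : i = j
      · subst hij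
        simp [Matrix.diagonal_apply_eq, chi, hPar, map_prod, map_zpow₀, Units.coe_prod, Units.val_zpow_eq_zpow_val]
      · simp [Matrix.diagonal_apply_ne _ hij]
    exact key _ (hC_mem_H hσ u)
  · have e : fieldAut hσ ρ * θ2 = fieldAut hσ ρ := by rw [hid, mul_one]
    have e2 : fieldAut hσ ρ * fieldAut hσ ρ⁻¹ = 1 := by rw [← map_mul, mul_inv_cancel, map_one]
    conv_rhs => rw [← e]
    rw [hθ2, hθ1, ← mul_assoc (fieldAut hσ ρ), hfc, mul_assoc, ← mul_assoc (fieldAut hσ ρ), e2, one_mul,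
      ← mul_assoc, ← map_mul]

end

end CfsgLib.ReeF4Out
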